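import Groth.Agent.Sga7.H301.Main

/-!
# Semistable and good reduction of abelian varieties over Dedekind domains

`R` a Noetherian domain of dimension at most one with fraction field `K`, `A` an abelian variety over `K`.

* `hasSemistableReduction_of_local`: `A` has semistable reduction over `R` if it has semistable reduction over the local
  rings of `R` at the maximal ideals;
* `hasGoodReduction_of_local`: the same for good reduction;
* `exists_hasGoodReduction`: `A` has good reduction over all rings between `R` and `K` in which a certain `b ≠ 0` is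
  invertible (any Noetherian domain `R`);
* `hasSemistableReduction_of_hasGoodReduction`;
* `glueGood`, `glueSS`, `spread`: the forms for all local rings at a maximal ideal of a Dedekind domain.
-/

set_option autoImplicit false
set_option backward.isDefEq.respectTransparency false
universe u

open CategoryTheory CategoryTheory.Limits AlgebraicGeometry MonObj MonoidalCategory CartesianMonoidalCategory Opposite

namespace Groth.Agent.Sga7.H301.Glue

open Groth.Agent.Sga7.H301.PGrp

/-- Smooth, separated and quasi-compact. -/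
abbrev QSS : MorphismProperty Scheme.{u} := (@Smooth ⊓ @IsSeparated) ⊓ @QuasiCompact

/-- Smooth and proper. -/
abbrev QGood : MorphismProperty Scheme.{u} := @Smooth ⊓ @IsProper

section Spread

variable {R : Type u} [CommRing R] [IsNoetherianRing R] {L : Type u} [CommRing L] [Algebra R L]
  (M : Submonoid R) [IsLocalization M L] {G : Over (Spec (CommRingCat.of R))}
  {X : Over (Spec (CommRingCat.of L))} {q : X.left ⟶ G.left}

include M in
theorem exists_propOn_qss (h1 : LocallyOfFinitePresentation G.hom)
    (h2 : QuasiCompact G.hom) (h3 : QuasiSeparated G.hom) (h : IsPullback q X.hom G.hom (loc R L))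
    (hs : Smooth X.hom) (hsep : IsSeparated X.hom) :
    ∃ m ∈ M, PropOn QSS (bo m : Set (Spec (CommRingCat.of R))) G := by
  obtain ⟨m1, hm1, k1⟩ := exists_propOn_smooth (M := M) L h hs
  obtain ⟨m2, hm2, k2⟩ := exists_propOn_isSeparated (M := M) L h hsep
  have d1 : (bo (m1 * m2) : Set (Spec (CommRingCat.of R))) ⊆ bo m1 := bo_le ⟨m2, rfl⟩
  have d2 : (bo (m1 * m2) : Set (Spec (CommRingCat.of R))) ⊆ bo m2 := bo_le ⟨m1, mul_comm _ _⟩
  exact ⟨m1 * m2, M.mul_mem hm1 hm2, PropOn.inf (PropOn.inf (PropOn.mono k1 d1) (PropOn.mono k2 d2)) (propOn_of_prop h2)⟩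

include M in
theorem exists_propOn_qgood (h1 : LocallyOfFinitePresentation G.hom)
    (h2 : QuasiCompact G.hom) (h3 : QuasiSeparated G.hom) (h : IsPullback q X.hom G.hom (loc R L))
    (hs : Smooth X.hom) (hp : IsProper X.hom) :
    ∃ m ∈ M, PropOn QGood (bo m : Set (Spec (CommRingCat.of R))) G := by
  obtain ⟨m1, hm1, k1⟩ := exists_propOn_smooth (M := M) L h hs
  obtain ⟨m2, hm2, k2⟩ := exists_propOn_isProper (M := M) L h hp
  have d1 : (bo (m1 * m2) : Set (Spec (CommRingCat.of R))) ⊆ bo m1 := bo_le ⟨m2, rfl⟩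
  have d2 : (bo (m1 * m2) : Set (Spec (CommRingCat.of R))) ⊆ bo m2 := bo_le ⟨m1, mul_comm _ _⟩
  exact ⟨m1 * m2, M.mul_mem hm1 hm2, PropOn.inf (PropOn.mono k1 d1) (PropOn.mono k2 d2)⟩

end Spread

theorem smooth_abVar {K : Type u} [Field K] (A : Over (Spec (CommRingCat.of K))) [GrpObj A]
    [IsProper A.hom] [GeometricallyIntegral A.hom] : Smooth A.hom := by
  have h1 : LocallyOfFiniteType A.hom := inferInstance
  have h2 : GeometricallyReduced A.hom := inferInstance
  have hA : GrpObj (Over.mk A.hom) := inferInstanceAs (GrpObj A)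
  exact smooth_of_grpObj A.hom

theorem qss_le_lfp : QSS.{u} ≤ @LocallyOfFinitePresentation := fun _ _ f hf => by
  have h1 : Smooth f := hf.1.1
  infer_instance

theorem qss_le_qc : QSS.{u} ≤ @QuasiCompact := fun _ _ f hf => hf.2

theorem qss_le_qs : QSS.{u} ≤ @QuasiSeparated := fun _ _ f hf => by
  have h1 : IsSeparated f := hf.1.2
  infer_instance

theorem qgood_le_lfp : QGood.{u} ≤ @LocallyOfFinitePresentation := fun _ _ f hf => by
  have h1 : Smooth f := hf.1
  infer_instance

theorem qgood_le_qc : QGood.{u} ≤ @QuasiCompact := fun _ _ f hf => by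
  have h1 : IsProper f := hf.2
  infer_instance

theorem qgood_le_qs : QGood.{u} ≤ @QuasiSeparated := fun _ _ f hf => by
  have h1 : IsProper f := hf.2
  infer_instance

section

variable {R : Type u} [CommRing R] [IsDomain R] [IsNoetherianRing R] {K : Type u} [Field K] [Algebra R K]
  [IsFractionRing R K] (A : Over (Spec (CommRingCat.of K))) [GrpObj A]

theorem base_ss [IsProper A.hom] [GeometricallyIntegral A.hom] :
    ∃ b ∈ nonZeroDivisors R, HasExt QSS (@PhiSS (Spec (CommRingCat.of R))) A (bo b) := by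
  have hs : Smooth A.hom := smooth_abVar A
  refine hasExt_base @IsProper (fun G q h1 h2 h3 h => ?_) (fun U G P h s _ => fibOn_ss_of_proper h s)
  obtain ⟨m1, hm1, k1⟩ := exists_propOn_qss (nonZeroDivisors R) h1 h2 h3 h hs inferInstance
  obtain ⟨m2, hm2, k2⟩ := exists_propOn_isProper (M := nonZeroDivisors R) K h inferInstance
  have d1 : (bo (m1 * m2) : Set (Spec (CommRingCat.of R))) ⊆ bo m1 := bo_le ⟨m2, rfl⟩
  have d2 : (bo (m1 * m2) : Set (Spec (CommRingCat.of R))) ⊆ bo m2 := bo_le ⟨m1, mul_comm _ _⟩
  exact ⟨m1 * m2, Submonoid.mul_mem _ hm1 hm2, PropOn.inf (PropOn.mono k1 d1) (PropOn.mono k2 d2)⟩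

theorem base_good [IsProper A.hom] [GeometricallyIntegral A.hom] :
    ∃ b ∈ nonZeroDivisors R, HasExt QGood (@PhiCon (Spec (CommRingCat.of R))) A (bo b) := by
  have hs : Smooth A.hom := smooth_abVar A
  refine hasExt_base @GeometricallyIrreducible (fun G q h1 h2 h3 h => ?_)
    (fun U G P h s _ => fibOn_con_of_geometricallyIrreducible h s)
  obtain ⟨m1, hm1, k1⟩ := exists_propOn_qgood (nonZeroDivisors R) h1 h2 h3 h hs inferInstance
  obtain ⟨m2, hm2, k2⟩ := exists_propOn_geometricallyIrreducible h inferInstance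
  have d1 : (bo (m1 * m2) : Set (Spec (CommRingCat.of R))) ⊆ bo m1 := bo_le ⟨m2, rfl⟩
  have d2 : (bo (m1 * m2) : Set (Spec (CommRingCat.of R))) ⊆ bo m2 := bo_le ⟨m1, mul_comm _ _⟩
  exact ⟨m1 * m2, Submonoid.mul_mem _ hm1 hm2, PropOn.inf (PropOn.mono k1 d1) (PropOn.mono k2 d2)⟩

variable {A}

theorem hasPt_ss (x : Spec (CommRingCat.of R)) (S : Type u) [CommRing S] [Algebra R S]
    [IsLocalization.AtPrime S (x : PrimeSpectrum R).asIdeal] [Algebra S K] [IsScalarTower R S K]
    (h : SGA7.HasSemistableReduction S K A) :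
    HasPt (nonZeroDivisors R) QSS (@PhiSS (Spec (CommRingCat.of R))) A x := by
  obtain ⟨X, gX, e, he, hs, hsep, hqc, hfib⟩ := h
  have i1 : LocallyQuasiFinite (loc R S) := by
    have : IsPreimmersion (loc R S) := IsPreimmersion.of_isLocalization (x : PrimeSpectrum R).asIdeal.primeCompl
    infer_instance
  have i2 : Mono (loc R S) := (isLoc_loc (x : PrimeSpectrum R).asIdeal.primeCompl S).mono
  exact hasPt_of_local x S X e
    (fun G q h1 h2 h3 h => exists_propOn_qss (x : PrimeSpectrum R).asIdeal.primeCompl h1 h2 h3 h hs hsep)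
    (fun t' X' gX' e he => phiSS_bc (loc R S) hfib t' e he)

theorem hasPt_good (x : Spec (CommRingCat.of R)) (S : Type u) [CommRing S] [Algebra R S]
    [IsLocalization.AtPrime S (x : PrimeSpectrum R).asIdeal] [Algebra S K] [IsScalarTower R S K]
    (h : SGA7.HasGoodReduction S K A) :
    HasPt (nonZeroDivisors R) QGood (@PhiCon (Spec (CommRingCat.of R))) A x := by
  obtain ⟨X, gX, e, he, hp, hs, hfib⟩ := h
  exact hasPt_of_local x S X e
    (fun G q h1 h2 h3 h => exists_propOn_qgood (x : PrimeSpectrum R).asIdeal.primeCompl h1 h2 h3 h hs hp)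
    (fun t' X' gX' e he => phiCon_bc (loc R S) hfib t' e)

theorem hasSemistableReduction_of_hasExt
    (h : HasExt QSS (@PhiSS (Spec (CommRingCat.of R))) A ⊤) : SGA7.HasSemistableReduction R K A := by
  obtain ⟨G, gG, e, he, hQ, hΦ⟩ := exists_of_hasExt_top h
  exact ⟨G, gG, e, he, hQ.1.1, hQ.1.2, hQ.2,
    fibresUnipotentRankZero_of_fibOn (fun _ => Set.mem_univ _) hΦ⟩

theorem hasGoodReduction_of_hasExt
    (h : HasExt QGood (@PhiCon (Spec (CommRingCat.of R))) A ⊤) : SGA7.HasGoodReduction R K A := by
  obtain ⟨G, gG, e, he, hQ, hΦ⟩ := exists_of_hasExt_top h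
  exact ⟨G, gG, e, he, hQ.2, hQ.1, connectedSpace_of_fibOn (fun _ => Set.mem_univ _) hΦ⟩

omit [IsDomain R] [IsNoetherianRing R] [IsFractionRing R K] in
/-- Good reduction over the rings over which the extension exists. -/
theorem hasGoodReduction_of_hasExt_bo {b : R} (h : HasExt QGood (@PhiCon (Spec (CommRingCat.of R))) A (bo b))
    (S : Type u) [CommRing S] [Algebra R S] [Algebra S K] [IsScalarTower R S K]
    (hb : IsUnit (algebraMap R S b)) : SGA7.HasGoodReduction S K A := by
  obtain ⟨G, P, q, hG, hmod, hQ, hΦ⟩ := h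
  have hr : ∀ x, loc R S x ∈ bo b := by
    intro x hx
    have h1 : algebraMap R S b ∈ (x : PrimeSpectrum S).asIdeal := hx
    exact (x : PrimeSpectrum S).2.ne_top (Ideal.eq_top_of_isUnit_mem _ h1 hb)
  let X : Over (Spec (CommRingCat.of S)) := Over.mk (pullback.snd G.hom (loc R S))
  have hpb : IsPullback (pullback.fst G.hom (loc R S)) X.hom G.hom (loc R S) := IsPullback.of_hasPullback _ _
  obtain ⟨gX, hX⟩ := exists_grpObj (X := X) P hpb hr
  have h2 := hX.bc (loc S K)
  rw [loc_comp_loc] at h2
  obtain ⟨e, he, -⟩ := h2.exists_iso hmod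
  have hQX : QGood X.hom := hQ (loc R S) _ X.hom hr hpb
  refine ⟨X, gX, e, he, hQX.2, hQX.1, ?_⟩
  intro k' _ t
  let p : Spec (CommRingCat.of k') := IsLocalRing.closedPoint _
  have hp : ∀ x, (t ≫ loc R S) x = (t ≫ loc R S) p := fun x => congrArg _ (Subsingleton.elim x p)
  have hpb' : (t ≫ loc R S) p ∈ bo b := by
    rw [Scheme.Hom.comp_apply]
    exact hr _
  exact hΦ _ hpb' (t ≫ loc R S) hp _ _ _ (hX.bc t) k' (Iso.refl _)

omit [IsDomain R] [IsNoetherianRing R] [IsFractionRing R K] in
/-- Good reduction implies semistable reduction. -/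
theorem hasSemistableReduction_of_hasGoodReduction (h : SGA7.HasGoodReduction R K A) :
    SGA7.HasSemistableReduction R K A := by
  obtain ⟨X, gX, e, he, hp, hs, -⟩ := h
  refine ⟨X, gX, e, he, hs, inferInstance, inferInstance, ?_⟩
  intro s
  have h1 : UniversallyClosed X.hom := inferInstance
  have h2 : UniversallyClosed (Red.geomFibre s X).hom := MorphismProperty.pullback_snd _ _ h1
  exact noGa_of_universallyClosed (𝟙 _) h2

/-- **Good reduction at almost all primes**, for Noetherian domains. -/
theorem exists_hasGoodReduction (R : Type u) [CommRing R] [IsDomain R] [IsNoetherianRing R] {K : Type u} [Field K]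
    [Algebra R K] [IsFractionRing R K] (A : Over (Spec (CommRingCat.of K))) [GrpObj A]
    [IsProper A.hom] [GeometricallyIntegral A.hom] :
    ∃ b : R, b ≠ 0 ∧ ∀ (S : Type u) [CommRing S] [Algebra R S] [Algebra S K] [IsScalarTower R S K],
      IsUnit (algebraMap R S b) → SGA7.HasGoodReduction S K A := by
  obtain ⟨b, hb, h⟩ := base_good (R := R) A
  exact ⟨b, nonZeroDivisors.ne_zero hb, fun S _ _ _ _ hu => hasGoodReduction_of_hasExt_bo h S hu⟩

/-- Good reduction at the primes not containing `b`. -/
theorem exists_hasGoodReduction_atPrime (R : Type u) [CommRing R] [IsDomain R] [IsNoetherianRing R] {K : Type u}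
    [Field K] [Algebra R K] [IsFractionRing R K] (A : Over (Spec (CommRingCat.of K))) [GrpObj A]
    [IsProper A.hom] [GeometricallyIntegral A.hom] :
    ∃ b : R, b ≠ 0 ∧ ∀ (q : Ideal R) [q.IsPrime] (_ : b ∉ q) (S : Type u) [CommRing S] [Algebra R S]
      [IsLocalization.AtPrime S q] [Algebra S K] [IsScalarTower R S K], SGA7.HasGoodReduction S K A := by
  obtain ⟨b, hb, h⟩ := exists_hasGoodReduction R A
  exact ⟨b, hb, fun q _ hq S _ _ _ _ _ => h S (IsLocalization.map_units S (⟨b, hq⟩ : q.primeCompl))⟩

variable [Ring.DimensionLEOne R] [IsProper A.hom] [GeometricallyIntegral A.hom]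

/-- **Semistable reduction is local on a Dedekind domain.** -/
theorem hasSemistableReduction_of_local
    (h : ∀ (q : Ideal R) [q.IsMaximal], q ≠ ⊥ → ∃ (S : Type u) (_ : CommRing S) (_ : Algebra R S)
      (_ : IsLocalization.AtPrime S q) (_ : Algebra S K) (_ : IsScalarTower R S K),
        SGA7.HasSemistableReduction S K A) : SGA7.HasSemistableReduction R K A := by
  refine hasSemistableReduction_of_hasExt (hasExt_top qss_le_lfp qss_le_qc qss_le_qs (base_ss A) ?_)
  intro x hx hx0
  obtain ⟨S, _, _, _, _, _, hS⟩ := @h (x : PrimeSpectrum R).asIdeal hx hx0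
  exact hasPt_ss x S hS

/-- **Good reduction is local on a Dedekind domain.** -/
theorem hasGoodReduction_of_local
    (h : ∀ (q : Ideal R) [q.IsMaximal], q ≠ ⊥ → ∃ (S : Type u) (_ : CommRing S) (_ : Algebra R S)
      (_ : IsLocalization.AtPrime S q) (_ : Algebra S K) (_ : IsScalarTower R S K),
        SGA7.HasGoodReduction S K A) : SGA7.HasGoodReduction R K A := by
  refine hasGoodReduction_of_hasExt (hasExt_top qgood_le_lfp qgood_le_qc qgood_le_qs (base_good A) ?_)
  intro x hx hx0
  obtain ⟨S, _, _, _, _, _, hS⟩ := @h (x : PrimeSpectrum R).asIdeal hx hx0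
  exact hasPt_good x S hS

end

section Forms

/-- The localization at a prime ideal as a subring of the fraction field. -/
theorem exists_localization (R K : Type u) [CommRing R] [IsDomain R] [Field K] [Algebra R K] [IsFractionRing R K]
    (q : Ideal R) [q.IsPrime] : ∃ (S : Type u) (_ : CommRing S) (_ : Algebra R S)
      (_ : IsLocalization.AtPrime S q) (_ : Algebra S K), IsScalarTower R S K := by
  let S := Localization.AtPrime q
  have hu : ∀ y : q.primeCompl, IsUnit (algebraMap R K y) := fun y => by
    rw [isUnit_iff_ne_zero]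
    intro h0
    have h1 : (y : R) = 0 := IsFractionRing.injective R K (by rw [h0, map_zero])
    exact y.2 (h1 ▸ q.zero_mem)
  letI : Algebra S K := (IsLocalization.lift (M := q.primeCompl) (S := S) hu).toAlgebra
  exact ⟨S, inferInstance, inferInstance, inferInstance, inferInstance,
    IsScalarTower.of_algebraMap_eq fun r => (IsLocalization.lift_eq (M := q.primeCompl) hu r).symm⟩

/-- The form of helper736's `GlueGood`. -/
theorem glueGood (R K : Type u) [CommRing R] [IsDedekindDomain R] [Field K] [Algebra R K] [IsFractionRing R K]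
    (A : Over (Spec (CommRingCat.of K))) [GrpObj A] [IsProper A.hom] [GeometricallyIntegral A.hom]
    (h : ∀ (q : Ideal R) [q.IsMaximal] (S : Type u) [CommRing S] [Algebra R S] [IsLocalization.AtPrime S q]
      [Algebra S K] [IsScalarTower R S K], SGA7.HasGoodReduction S K A) : SGA7.HasGoodReduction R K A := by
  refine hasGoodReduction_of_local fun q _ _ => ?_
  obtain ⟨S, i1, i2, i3, i4, i5⟩ := exists_localization R K q
  exact ⟨S, i1, i2, i3, i4, i5, h q S⟩

/-- As `glueGood`, for the nonzero maximal ideals. -/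
theorem glueGood' (R K : Type u) [CommRing R] [IsDedekindDomain R] [Field K] [Algebra R K] [IsFractionRing R K]
    (A : Over (Spec (CommRingCat.of K))) [GrpObj A] [IsProper A.hom] [GeometricallyIntegral A.hom]
    (h : ∀ (q : Ideal R) [q.IsMaximal] (_ : q ≠ ⊥) (S : Type u) [CommRing S] [Algebra R S]
      [IsLocalization.AtPrime S q] [Algebra S K] [IsScalarTower R S K], SGA7.HasGoodReduction S K A) :
    SGA7.HasGoodReduction R K A := by
  refine hasGoodReduction_of_local fun q _ hq => ?_
  obtain ⟨S, i1, i2, i3, i4, i5⟩ := exists_localization R K q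
  exact ⟨S, i1, i2, i3, i4, i5, h q hq S⟩

/-- The form of helper732's `GlueSS`. -/
theorem glueSS (R K : Type u) [CommRing R] [IsDedekindDomain R] [Field K] [Algebra R K] [IsFractionRing R K]
    (A : Over (Spec (CommRingCat.of K))) [GrpObj A] [IsProper A.hom] [GeometricallyIntegral A.hom]
    (h : ∀ (q : Ideal R) [q.IsMaximal] (_ : q ≠ ⊥) (S : Type u) [CommRing S] [Algebra R S]
      [IsLocalization.AtPrime S q] [Algebra S K] [IsScalarTower R S K], SGA7.HasSemistableReduction S K A) :
    SGA7.HasSemistableReduction R K A := by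
  refine hasSemistableReduction_of_local fun q _ hq => ?_
  obtain ⟨S, i1, i2, i3, i4, i5⟩ := exists_localization R K q
  exact ⟨S, i1, i2, i3, i4, i5, h q hq S⟩

/-- The form of helper732's `Spread`. -/
theorem spread (R K : Type u) [CommRing R] [IsDedekindDomain R] [Field K] [Algebra R K] [IsFractionRing R K]
    (A : Over (Spec (CommRingCat.of K))) [GrpObj A] [IsProper A.hom] [GeometricallyIntegral A.hom] :
    ∃ f : R, f ≠ 0 ∧ ∀ (q : Ideal R) [q.IsMaximal] (_ : f ∉ q) (S : Type u) [CommRing S] [Algebra R S]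
      [IsLocalization.AtPrime S q] [Algebra S K] [IsScalarTower R S K], SGA7.HasGoodReduction S K A := by
  obtain ⟨b, hb, h⟩ := exists_hasGoodReduction_atPrime R A
  exact ⟨b, hb, fun q _ hq S _ _ _ _ _ => h q hq S⟩

end Forms

end Groth.Agent.Sga7.H301.Glue
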