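import Groth.Agent.Sga7.H301.Induct
import Mathlib.RingTheory.DedekindDomain.Basic

/-!
# Basic opens of a Noetherian domain of dimension at most one
-/

set_option autoImplicit false
set_option backward.isDefEq.respectTransparency false
universe u

open CategoryTheory CategoryTheory.Limits AlgebraicGeometry

namespace Groth.Agent.Sga7.H301.PGrp

variable {R : Type u} [CommRing R] [IsDomain R] [IsNoetherianRing R] [Ring.DimensionLEOne R]

omit [IsNoetherianRing R] [Ring.DimensionLEOne R] [IsDomain R] in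
theorem ne_bot_of_notMem_bo {b : R} (hb : b ≠ 0) {x : Spec (CommRingCat.of R)} (hx : x ∉ bo b) :
    (x : PrimeSpectrum R).asIdeal ≠ ⊥ := by
  have h1 : b ∈ (x : PrimeSpectrum R).asIdeal := by
    by_contra h
    exact hx h
  intro h
  rw [h, Ideal.mem_bot] at h1
  exact hb h1

theorem isMaximal_of_notMem_bo {b : R} (hb : b ≠ 0) {x : Spec (CommRingCat.of R)} (hx : x ∉ bo b) :
    (x : PrimeSpectrum R).asIdeal.IsMaximal := by
  have h1 : b ∈ (x : PrimeSpectrum R).asIdeal := by
    by_contra h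
    exact hx h
  have h2 : (x : PrimeSpectrum R).asIdeal ≠ ⊥ := by
    intro h
    rw [h, Ideal.mem_bot] at h1
    exact hb h1
  exact Ring.DimensionLEOne.maximalOfPrime h2 (x : PrimeSpectrum R).2

theorem finite_compl_bo {b : R} (hb : b ≠ 0) : ((bo b : Set (Spec (CommRingCat.of R)))ᶜ).Finite := by
  have h1 := Ideal.finite_minimalPrimes_of_isNoetherianRing R (Ideal.span {b})
  refine Set.Finite.of_injOn (f := fun x : Spec (CommRingCat.of R) => (x : PrimeSpectrum R).asIdeal)
    (t := (Ideal.span {b}).minimalPrimes) ?_ ?_ h1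
  · intro x hx
    have hbx : b ∈ (x : PrimeSpectrum R).asIdeal := by
      by_contra h
      exact hx h
    refine ⟨⟨(x : PrimeSpectrum R).2, (Ideal.span_singleton_le_iff_mem _).mpr hbx⟩, ?_⟩
    rintro q ⟨hq, hbq⟩ hqx
    have hq0 : q ≠ ⊥ := by
      intro h
      rw [h, Ideal.span_singleton_le_iff_mem, Ideal.mem_bot] at hbq
      exact hb hbq
    have hqm : q.IsMaximal := Ring.DimensionLEOne.maximalOfPrime hq0 hq
    exact (hqm.eq_of_le (x : PrimeSpectrum R).2.ne_top hqx).ge
  · intro x _ y _ hxy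
    exact PrimeSpectrum.ext hxy

theorem exists_bo_subset (a : R) (ha : a ∈ nonZeroDivisors R) (x : Spec (CommRingCat.of R)) :
    ∃ h ∈ nonZeroDivisors R, x ∈ bo h ∧
      (bo h : Set (Spec (CommRingCat.of R))) ⊆ (bo a : Set (Spec (CommRingCat.of R))) ∪ {x} := by
  have ha0 : a ≠ 0 := nonZeroDivisors.ne_zero ha
  let T : Set (PrimeSpectrum R) := {y | (y : Spec (CommRingCat.of R)) ∉ bo a ∧ y ≠ x}
  have hT : T.Finite := (finite_compl_bo ha0).subset fun y hy => hy.1
  have hTc : IsClosed T := by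
    have h1 : T = ⋃ y ∈ T, {y} := by simp
    rw [h1]
    refine hT.isClosed_biUnion fun y hy => ?_
    rw [PrimeSpectrum.isClosed_singleton_iff_isMaximal]
    exact isMaximal_of_notMem_bo ha0 hy.1
  have hxT : (x : PrimeSpectrum R) ∈ Tᶜ := fun h => h.2 rfl
  obtain ⟨_, ⟨h, rfl⟩, hxh, hhT⟩ := PrimeSpectrum.isTopologicalBasis_basic_opens.exists_subset_of_mem_open
    hxT hTc.isOpen_compl
  refine ⟨h, mem_nonZeroDivisors_of_ne_zero ?_, hxh, ?_⟩
  · rintro rfl
    exact hxh (Ideal.zero_mem _)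
  · intro y hy
    have h2 := hhT hy
    by_contra h3
    apply h2
    refine ⟨fun h4 => h3 (Or.inl h4), fun h4 => h3 (Or.inr h4)⟩

end Groth.Agent.Sga7.H301.PGrp
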