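import Groth.Agent.Sga7.H301.GluePGrp
import Groth.Agent.CalgA.TwoGlue

/-!
# Gluing two schemes with partial group structures over two opens of the base

* `exists_glue_sch`: `G₀`, `G₁` over opens `U₀`, `U₁` of `S` with a common open part `N` over `U₀ ∩ U₁` glue;
* `exists_glue_grp`: the same with partial group structures;
* `PropOn Q U G`: the property `Q` of morphisms holds for `G` over `U`; gluing, transport.
-/

set_option autoImplicit false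
set_option backward.isDefEq.respectTransparency false
universe u

open CategoryTheory CategoryTheory.Limits AlgebraicGeometry MonObj MonoidalCategory CartesianMonoidalCategory Opposite

namespace Groth.Agent.Sga7.H301.PGrp

open Groth.Agent.CalgA

variable {S : Scheme.{u}}

section Sch

variable {U₀ U₁ : S.Opens} {G₀ G₁ N : Over S}

theorem exists_glue_sch (i₀ : N ⟶ G₀) (i₁ : N ⟶ G₁) [IsOpenImmersion i₀.left] [IsOpenImmersion i₁.left]
    (h₀ : Lies (U₀ : Set S) G₀) (h₁ : Lies (U₁ : Set S) G₁)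
    (hN₀ : ∀ y : G₀.left, G₀.hom y ∈ U₁ → y ∈ Set.range i₀.left)
    (hN₁ : ∀ y : G₁.left, G₁.hom y ∈ U₀ → y ∈ Set.range i₁.left) :
    ∃ (G : Over S) (e₀ : G₀ ⟶ G) (e₁ : G₁ ⟶ G), IsOpenImmersion e₀.left ∧ IsOpenImmersion e₁.left ∧
      i₀ ≫ e₀ = i₁ ≫ e₁ ∧ Lies ((U₀ ⊔ U₁ : S.Opens) : Set S) G ∧ BijOn (U₀ : Set S) e₀ ∧
      BijOn (U₁ : Set S) e₁ := by
  let f : pushout i₀.left i₁.left ⟶ S :=
    pushout.desc G₀.hom G₁.hom (by rw [Over.w i₀, Over.w i₁])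
  let G : Over S := Over.mk f
  let e₀ : G₀ ⟶ G := Over.homMk (pushout.inl i₀.left i₁.left) (pushout.inl_desc _ _ _)
  let e₁ : G₁ ⟶ G := Over.homMk (pushout.inr i₀.left i₁.left) (pushout.inr_desc _ _ _)
  have he₀ : IsOpenImmersion e₀.left := TwoGlue.isOpenImmersion_inl i₀.left i₁.left
  have he₁ : IsOpenImmersion e₁.left := TwoGlue.isOpenImmersion_inr i₀.left i₁.left
  have hf₀ : ∀ y, f (pushout.inl i₀.left i₁.left y) = G₀.hom y := by
    intro y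
    rw [← Scheme.Hom.comp_apply]
    exact congrArg (fun g => (g : G₀.left ⟶ S) y) (pushout.inl_desc _ _ _)
  have hf₁ : ∀ y, f (pushout.inr i₀.left i₁.left y) = G₁.hom y := by
    intro y
    rw [← Scheme.Hom.comp_apply]
    exact congrArg (fun g => (g : G₁.left ⟶ S) y) (pushout.inr_desc _ _ _)
  have hcond : ∀ n, pushout.inl i₀.left i₁.left (i₀.left n) = pushout.inr i₀.left i₁.left (i₁.left n) := by
    intro n
    rw [← Scheme.Hom.comp_apply, ← Scheme.Hom.comp_apply, pushout.condition]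
  refine ⟨G, e₀, e₁, he₀, he₁, ?_, ?_, ?_, ?_⟩
  · ext1
    exact pushout.condition
  · intro x
    change f x ∈ U₀ ⊔ U₁
    rcases TwoGlue.exists_inl_or_inr i₀.left i₁.left x with ⟨y, rfl⟩ | ⟨y, rfl⟩
    · left
      rw [hf₀]
      exact h₀ y
    · right
      rw [hf₁]
      exact h₁ y
  · refine bijOn_of_isOpenImmersion e₀ ?_
    intro x hx
    change f x ∈ U₀ at hx
    rcases TwoGlue.exists_inl_or_inr i₀.left i₁.left x with ⟨y, rfl⟩ | ⟨y, rfl⟩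
    · exact ⟨y, rfl⟩
    · rw [hf₁] at hx
      obtain ⟨n, rfl⟩ := hN₁ y hx
      exact ⟨i₀.left n, hcond n⟩
  · refine bijOn_of_isOpenImmersion e₁ ?_
    intro x hx
    change f x ∈ U₁ at hx
    rcases TwoGlue.exists_inl_or_inr i₀.left i₁.left x with ⟨y, rfl⟩ | ⟨y, rfl⟩
    · rw [hf₀] at hx
      obtain ⟨n, rfl⟩ := hN₀ y hx
      exact ⟨i₁.left n, (hcond n).symm⟩
    · exact ⟨y, rfl⟩

/-- Gluing two opens of the base. -/
theorem exists_glue_two {G : Over S} (P₀ : PGrp (U₀ : Set S) G) (P₁ : PGrp (U₁ : Set S) G)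
    (h : Agree P₀ P₁) : ∃ P : PGrp ((U₀ ⊔ U₁ : S.Opens) : Set S) G, Agree P P₀ ∧ Agree P P₁ := by
  let U : Bool → S.Opens := fun b => match b with
    | true => U₀
    | false => U₁
  let P : ∀ b, PGrp (U b : Set S) G := fun b => match b with
    | true => P₀
    | false => P₁
  obtain ⟨Q, hQ⟩ := exists_glue U P (by
    rintro (_ | _) (_ | _)
    · exact Agree.refl P₁
    · exact Agree.symm h
    · exact h
    · exact Agree.refl P₀)
  have hU : ((U₀ ⊔ U₁ : S.Opens) : Set S) ⊆ ⋃ i, (U i : Set S) := by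
    rintro x (hx | hx)
    · exact Set.mem_iUnion.mpr ⟨true, hx⟩
    · exact Set.mem_iUnion.mpr ⟨false, hx⟩
  refine ⟨Q.res hU, ?_, ?_⟩
  · intro Z h1 h2 x y
    exact hQ true (h1.mono hU) h2 x y
  · intro Z h1 h2 x y
    exact hQ false (h1.mono hU) h2 x y

/-- **Gluing two group schemes over two opens of the base.** -/
theorem exists_glue_grp (P₀ : PGrp (U₀ : Set S) G₀) (P₁ : PGrp (U₁ : Set S) G₁)
    (i₀ : N ⟶ G₀) (i₁ : N ⟶ G₁) [IsOpenImmersion i₀.left] [IsOpenImmersion i₁.left]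
    (h₀ : Lies (U₀ : Set S) G₀) (h₁ : Lies (U₁ : Set S) G₁)
    (hN₀ : ∀ y : G₀.left, G₀.hom y ∈ U₁ → y ∈ Set.range i₀.left)
    (hN₁ : ∀ y : G₁.left, G₁.hom y ∈ U₀ → y ∈ Set.range i₁.left)
    (hag : ∀ {Z : Over S} (h0 : Lies (U₀ : Set S) Z) (h1 : Lies (U₁ : Set S) Z) (x y : Z ⟶ N),
      ∃ z : Z ⟶ N, P₀.mul h0 (x ≫ i₀) (y ≫ i₀) = z ≫ i₀ ∧ P₁.mul h1 (x ≫ i₁) (y ≫ i₁) = z ≫ i₁) :
    ∃ (G : Over S) (e₀ : G₀ ⟶ G) (e₁ : G₁ ⟶ G), IsOpenImmersion e₀.left ∧ IsOpenImmersion e₁.left ∧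
      i₀ ≫ e₀ = i₁ ≫ e₁ ∧ Lies ((U₀ ⊔ U₁ : S.Opens) : Set S) G ∧
      ∃ (b₀ : BijOn (U₀ : Set S) e₀) (b₁ : BijOn (U₁ : Set S) e₁)
        (P : PGrp ((U₀ ⊔ U₁ : S.Opens) : Set S) G), Agree P (P₀.ofBij e₀ b₀) ∧ Agree P (P₁.ofBij e₁ b₁) := by
  obtain ⟨G, e₀, e₁, he₀, he₁, hcomm, hG, b₀, b₁⟩ := exists_glue_sch i₀ i₁ h₀ h₁ hN₀ hN₁
  refine ⟨G, e₀, e₁, he₀, he₁, hcomm, hG, b₀, b₁, ?_⟩
  apply exists_glue_two
  intro Z h1 h2 x y
  have bi₀ : BijOn (U₁ : Set S) i₀ := bijOn_of_isOpenImmersion i₀ hN₀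
  have key : ∀ x : Z ⟶ G, ∃ x' : Z ⟶ N, x' ≫ i₀ ≫ e₀ = x ∧ x' ≫ i₁ ≫ e₁ = x := by
    intro x
    obtain ⟨x₀, hx₀⟩ := (b₀ h1).2 x
    obtain ⟨x', hx'⟩ := (bi₀ h2).2 x₀
    have h3 : x' ≫ i₀ = x₀ := hx'
    have h4 : x₀ ≫ e₀ = x := hx₀
    refine ⟨x', ?_, ?_⟩
    · rw [← Category.assoc, h3, h4]
    · rw [← hcomm, ← Category.assoc, h3, h4]
  obtain ⟨x', hx0, hx1⟩ := key x
  obtain ⟨y', hy0, hy1⟩ := key y
  obtain ⟨z, hz0, hz1⟩ := hag h1 h2 x' y'
  have k0 : (P₀.ofBij e₀ b₀).mul h1 x y = z ≫ i₀ ≫ e₀ := by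
    rw [← hx0, ← hy0, ← Category.assoc, ← Category.assoc, ofBij_mul, hz0, Category.assoc]
  have k1 : (P₁.ofBij e₁ b₁).mul h2 x y = z ≫ i₁ ≫ e₁ := by
    rw [← hx1, ← hy1, ← Category.assoc, ← Category.assoc, ofBij_mul, hz1, Category.assoc]
  rw [k0, k1, hcomm]

end Sch

section Models

variable {U V : Set S} {G H : Over S}

theorem IsModel.of_agree {P : PGrp U G} {Q : PGrp V G} {T : Scheme.{u}} {t : T ⟶ S} {X : Over T}
    [GrpObj X] {q : X.left ⟶ G.left} (h : IsModel Q t X q) (hPQ : Agree P Q) (ht : ∀ x, t x ∈ U) :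
    IsModel P t X q where
  isPullback := h.isPullback
  lies := ht
  mul {Z} x y := by
    rw [h.toS_mul]
    exact (hPQ _ _ _ _).symm

theorem IsModel.exists_of_ofBij {P : PGrp U G} {T : Scheme.{u}} {t : T ⟶ S} {X : Over T} [GrpObj X]
    {q : X.left ⟶ H.left} {i : G ⟶ H} {hi : BijOn U i} (h : IsModel (P.ofBij i hi) t X q) :
    ∃ q' : X.left ⟶ G.left, q' ≫ i.left = q ∧ IsModel P t X q' := by
  obtain ⟨q', hq', h'⟩ := h.exists_comapBij i hi
  refine ⟨q', hq', ?_⟩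
  have h1 : (P.ofBij i hi).comapBij i hi = P := by
    apply ext_mul
    intro Z hZ x y
    apply (hi hZ).1
    change ((P.ofBij i hi).comapBij i hi).mul hZ x y ≫ i = P.mul hZ x y ≫ i
    rw [comapBij_mul, ofBij_mul]
  rwa [h1] at h'

/-- The property `Q` of morphisms holds for `G` over `U`. -/
def PropOn (Q : MorphismProperty Scheme.{u}) (U : Set S) (G : Over S) : Prop :=
  ∀ {T X : Scheme.{u}} (t : T ⟶ S) (q : X ⟶ G.left) (f : X ⟶ T), (∀ x, t x ∈ U) →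
    IsPullback q f G.hom t → Q f

theorem PropOn.mono {Q : MorphismProperty Scheme.{u}} (h : PropOn Q V G) (hUV : U ⊆ V) :
    PropOn Q U G := fun t q f ht hf => h t q f (fun x => hUV (ht x)) hf

theorem PropOn.of_bijOn {Q : MorphismProperty Scheme.{u}} (h : PropOn Q U G) {i : G ⟶ H}
    (hi : BijOn U i) : PropOn Q U H := by
  intro T X t q f ht hf
  obtain ⟨q', -, h'⟩ := hi.exists_isPullback ht hf
  exact h t q' f ht h'

theorem PropOn.sup {Q : MorphismProperty Scheme.{u}} [IsZariskiLocalAtTarget Q] {U₀ U₁ : S.Opens}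
    (h₀ : PropOn Q (U₀ : Set S) G) (h₁ : PropOn Q (U₁ : Set S) G) :
    PropOn Q ((U₀ ⊔ U₁ : S.Opens) : Set S) G := by
  intro T X t q f ht hf
  let W : Bool → T.Opens := fun b => match b with
    | true => t ⁻¹ᵁ U₀
    | false => t ⁻¹ᵁ U₁
  have hW : iSup W = ⊤ := by
    rw [eq_top_iff]
    intro x _
    rcases ht x with hx | hx
    · exact TopologicalSpace.Opens.mem_iSup.mpr ⟨true, hx⟩
    · exact TopologicalSpace.Opens.mem_iSup.mpr ⟨false, hx⟩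
  rw [IsZariskiLocalAtTarget.iff_of_iSup_eq_top (P := Q) W hW]
  have key : ∀ V : T.Opens, IsPullback ((f ⁻¹ᵁ V).ι ≫ q) (f ∣_ V) G.hom (V.ι ≫ t) := by
    intro V
    exact ((isPullback_morphismRestrict f V).flip).paste_horiz hf
  rintro (_ | _)
  · refine h₁ _ _ _ ?_ (key _)
    intro x
    rw [Scheme.Hom.comp_apply]
    exact x.2
  · refine h₀ _ _ _ ?_ (key _)
    intro x
    rw [Scheme.Hom.comp_apply]
    exact x.2

end Models

end Groth.Agent.Sga7.H301.PGrp
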