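import Groth.Agent.Sga7.H301.SpreadGrp
import Groth.Agent.Sga7.H301.SchGlue
import Groth.Agent.CalgA.LimFP2
import Groth.Agent.Smoothlim.ProperDescend
import Groth.Agent.Ega2.GeoStage
import Groth.Agent.Smoothlim.SmoothLocusBC
import Groth.Agent.Flat2D.NoethConstr

/-!
# Spreading out schemes and properties of morphisms from a localization

`L = M⁻¹R`.

* `exists_model_sch`: a scheme of finite presentation over `Spec L` comes from one over `Spec R`;
* `exists_propOn_isSeparated`, `exists_propOn_isProper`, `exists_propOn_smooth`.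
-/

set_option autoImplicit false
set_option backward.isDefEq.respectTransparency false
universe u

open CategoryTheory CategoryTheory.Limits AlgebraicGeometry MonObj MonoidalCategory CartesianMonoidalCategory Opposite

namespace Groth.Agent.Sga7.H301.PGrp

open Groth.Agent.Sga3B.LocLim789 Groth.Agent.CalgA.LimFP Groth.Agent.Smoothlim.LimBase

theorem isPullback_comp_mono {C : Type*} [Category C] {P X Y Z W : C} {fst : P ⟶ X} {snd : P ⟶ Y}
    {f : X ⟶ Z} {g : Y ⟶ Z} (h : IsPullback fst snd f g) (k : Z ⟶ W) [Mono k] :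
    IsPullback fst snd (f ≫ k) (g ≫ k) := by
  refine ⟨⟨by rw [reassoc_of% h.w]⟩, ⟨PullbackCone.IsLimit.mk _
    (fun s => h.lift s.fst s.snd (by rw [← cancel_mono k]; simpa using s.condition)) ?_ ?_ ?_⟩⟩
  · intro s
    exact h.lift_fst _ _ _
  · intro s
    exact h.lift_snd _ _ _
  · intro s m h1 h2
    apply h.hom_ext
    · rw [h1, h.lift_fst]
    · rw [h2, h.lift_snd]

variable {R : Type u} [CommRing R] (M : Submonoid R) (L : Type u) [CommRing L] [Algebra R L]
  [IsLocalization M L]

include M in
/-- Spreading out schemes of finite presentation. -/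
theorem exists_model_sch (X : Over (Spec (CommRingCat.of L))) [LocallyOfFinitePresentation X.hom]
    [QuasiCompact X.hom] [QuasiSeparated X.hom] :
    ∃ (G : Over (Spec (CommRingCat.of R))) (q : X.left ⟶ G.left), LocallyOfFinitePresentation G.hom ∧
      QuasiCompact G.hom ∧ QuasiSeparated G.hom ∧ IsPullback q X.hom G.hom (loc R L) := by
  have hc : IsLimit (schCone (M := M) L) := isLimitSchCone (M := M) L
  have h1 : LocallyOfFinitePresentation (Y := (schCone (M := M) L).pt) X.hom :=
    ‹LocallyOfFinitePresentation X.hom›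
  have h2 : QuasiCompact (Y := (schCone (M := M) L).pt) X.hom := ‹QuasiCompact X.hom›
  have h3 : QuasiSeparated (Y := (schCone (M := M) L).pt) X.hom := ‹QuasiSeparated X.hom›
  obtain ⟨j, ⟨m⟩⟩ := Mdl.exists_model (D := schDiagram M) hc (X := X.left) X.hom
  have := m.lfp
  have := m.qc
  have := m.qs
  have i2 : QuasiCompact (loc R (Stage j.unop)) := inferInstance
  have i3 : QuasiSeparated (loc R (Stage j.unop)) := inferInstance
  have i4 : LocallyOfFinitePresentation (loc R (Stage j.unop)) := inferInstance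
  let f : m.A ⟶ Spec (CommRingCat.of R) := m.f ≫ loc R (Stage j.unop)
  refine ⟨Over.mk f, m.p, ?_, ?_, ?_, ?_⟩
  · exact MorphismProperty.comp_mem _ m.f (loc R (Stage j.unop)) m.lfp i4
  · exact MorphismProperty.comp_mem _ m.f (loc R (Stage j.unop)) m.qc i2
  · exact MorphismProperty.comp_mem _ m.f (loc R (Stage j.unop)) m.qs i3
  · have h4 := isPullback_comp_mono m.h (loc R (Stage j.unop))
    have h5 := cone_w (M := M) L j
    rw [h5] at h4
    exact h4

variable {M} {G : Over (Spec (CommRingCat.of R))} {X : Over (Spec (CommRingCat.of L))}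
  {q : X.left ⟶ G.left}

/-- Stages and base changes. -/
theorem propOn_of_stage {P : MorphismProperty Scheme.{u}} [P.IsStableUnderBaseChange]
    (j : (Idx M)ᵒᵖ) (h : P (pullback.snd G.hom (loc R (Stage j.unop)))) :
    PropOn P (bo (den j.unop) : Set (Spec (CommRingCat.of R))) G := by
  intro T X t q f ht hf
  have h1 : Set.range t ⊆ Set.range (loc R (Stage j.unop)) := by
    rw [range_loc_away (den j.unop)]
    rintro _ ⟨x, rfl⟩
    exact ht x
  obtain ⟨t', ht'⟩ : ∃ t' : T ⟶ Spec (CommRingCat.of (Stage j.unop)), t' ≫ loc R (Stage j.unop) = t :=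
    ⟨IsOpenImmersion.lift (loc R (Stage j.unop)) t h1, IsOpenImmersion.lift_fac _ _ _⟩
  subst ht'
  exact P.of_isPullback (IsPullback.of_right' hf (IsPullback.of_hasPullback G.hom (loc R (Stage j.unop)))) h

theorem exists_propOn {P Q : MorphismProperty Scheme.{u}} [P.IsStableUnderBaseChange]
    [IsZariskiLocalAtTarget P] [Q.IsStableUnderBaseChange] (hA : DescendsAffine Q P)
    (h : IsPullback q X.hom G.hom (loc R L)) (hQ : Q (toSt0 M G)) (hP : P X.hom) :
    ∃ m ∈ M, PropOn P (bo m : Set (Spec (CommRingCat.of R))) G := by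
  let D := schDiagram M
  let c := schCone (M := M) L
  have hc : IsLimit c := isLimitSchCone (M := M) L
  have h₀ := isPullback_st0 (M := M) L h
  obtain ⟨i, φ, hi⟩ := exists_descend hA D c hc (st0 M) (toSt0 M G) (𝟙 (D.obj (st0 M))) X.hom (𝟙 _)
    (c.π.app (st0 M)) q (IsPullback.of_vert_isIso
      ⟨(Category.comp_id (c.π.app (st0 M))).trans (Category.id_comp (c.π.app (st0 M))).symm⟩) h₀ hQ hP
  refine ⟨den i.unop, den_mem _, propOn_of_stage (M := M) i ?_⟩
  -- compare the two pullbacks
  have e1 : pullback.fst (𝟙 (D.obj (st0 M))) (D.map φ) =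
      pullback.snd (𝟙 (D.obj (st0 M))) (D.map φ) ≫ D.map φ := by
    rw [← pullback.condition, Category.comp_id]
  have e2 : IsIso (pullback.snd (𝟙 (D.obj (st0 M))) (D.map φ)) := inferInstance
  have h1 : IsPullback (pullback.fst (toSt0 M G) (D.map φ)) (pullback.snd (toSt0 M G) (D.map φ))
      (toSt0 M G) (D.map φ) := IsPullback.of_hasPullback _ _
  have h2 : P (pullback.snd (toSt0 M G) (D.map φ)) := by
    have e3 : D.map φ = CategoryTheory.inv (pullback.snd (𝟙 (D.obj (st0 M))) (D.map φ)) ≫
        pullback.fst (𝟙 (D.obj (st0 M))) (D.map φ) := by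
      rw [IsIso.eq_inv_comp]
      exact e1.symm
    have h3 : IsPullback (pullback.fst (toSt0 M G) (D.map φ)) (pullback.snd (toSt0 M G) (D.map φ))
      (toSt0 M G) (CategoryTheory.inv (pullback.snd (𝟙 (D.obj (st0 M))) (D.map φ)) ≫
        pullback.fst (𝟙 (D.obj (st0 M))) (D.map φ)) := by
      rw [← e3]
      exact h1
    exact P.of_isPullback (IsPullback.of_right' h3 (IsPullback.of_hasPullback _ _)) hi
  have h4 : IsPullback (pullback.fst (toSt0 M G) (D.map φ)) (pullback.snd (toSt0 M G) (D.map φ))
      G.hom (loc R (Stage i.unop)) := by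
    have h5 := isPullback_comp_mono h1 (loc R (Stage (st0 M).unop))
    have h6 : D.map φ ≫ loc R (Stage (st0 M).unop) = loc R (Stage i.unop) := stage_w (M := M) φ
    have h7 : toSt0 M G ≫ loc R (Stage (st0 M).unop) = G.hom := by simp
    rw [h6, h7] at h5
    exact h5
  have h8 : IsPullback (pullback.fst G.hom (loc R (Stage i.unop))) (pullback.snd G.hom (loc R (Stage i.unop)))
      G.hom (𝟙 _ ≫ loc R (Stage i.unop)) := by
    rw [Category.id_comp]
    exact IsPullback.of_hasPullback _ _
  exact P.of_isPullback (IsPullback.of_right' h8 h4) h2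

theorem exists_propOn_isSeparated [QuasiCompact G.hom] [QuasiSeparated G.hom]
    (h : IsPullback q X.hom G.hom (loc R L)) (hP : IsSeparated X.hom) :
    ∃ m ∈ M, PropOn @IsSeparated (bo m : Set (Spec (CommRingCat.of R))) G := by
  refine exists_propOn (M := M) L descendsAffine_isSeparated h ⟨?_, ?_⟩ hP
  · dsimp only [toSt0]; infer_instance
  · dsimp only [toSt0]; infer_instance

theorem exists_propOn_isProper [LocallyOfFiniteType G.hom] [QuasiCompact G.hom] [QuasiSeparated G.hom]
    (h : IsPullback q X.hom G.hom (loc R L)) (hP : IsProper X.hom) :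
    ∃ m ∈ M, PropOn @IsProper (bo m : Set (Spec (CommRingCat.of R))) G := by
  refine exists_propOn (M := M) L descendsAffine_isProper h ⟨⟨?_, ?_⟩, ?_⟩ hP
  · dsimp only [toSt0]; infer_instance
  · dsimp only [toSt0]; infer_instance
  · dsimp only [toSt0]; infer_instance

theorem isPullback_of_comp_mono {C : Type*} [Category C] {P X Y Z W : C} {q' : P ⟶ X} {i : X ⟶ Y} [Mono i]
    {f : P ⟶ Z} {g : Y ⟶ W} {t : Z ⟶ W} (h : IsPullback (q' ≫ i) f g t) :
    IsPullback q' f (i ≫ g) t := by
  refine ⟨⟨by rw [← Category.assoc, h.w]⟩, ⟨PullbackCone.IsLimit.mk _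
    (fun s => h.lift (s.fst ≫ i) s.snd (by rw [Category.assoc, s.condition])) ?_ ?_ ?_⟩⟩
  · intro s
    rw [← cancel_mono i, Category.assoc, h.lift_fst]
  · intro s
    exact h.lift_snd _ _ _
  · intro s m h1 h2
    apply h.hom_ext
    · rw [h.lift_fst, ← Category.assoc, h1]
    · rw [h.lift_snd, h2]

theorem exists_propOn_smooth [IsNoetherianRing R] [LocallyOfFinitePresentation G.hom]
    [QuasiCompact G.hom] [QuasiSeparated G.hom]
    (h : IsPullback q X.hom G.hom (loc R L)) (hP : Smooth X.hom) :
    ∃ m ∈ M, PropOn @Smooth (bo m : Set (Spec (CommRingCat.of R))) G := by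
  have n1 : IsLocallyNoetherian (Spec (CommRingCat.of R)) := inferInstance
  have n2 : IsLocallyNoetherian G.left := LocallyOfFiniteType.isLocallyNoetherian G.hom
  have n3 : CompactSpace G.left := QuasiCompact.compactSpace_of_compactSpace G.hom
  have n4 : IsNoetherian G.left := {}
  have hflat : Flat (loc R L) := by
    have : Module.Flat R L := IsLocalization.flat L M
    rw [Flat.SpecMap_iff]
    exact RingHom.flat_algebraMap_iff.mpr this
  obtain ⟨j, hj⟩ := Groth.Agent.Ega2.GeoStage.exists_empty (schDiagram M) (schCone (M := M) L)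
    (isLimitSchCone (M := M) L) (fun j => loc R (Stage j.unop)) (fun φ => stage_w (M := M) φ) G.hom
    (loc R L) (cone_w (M := M) L) (G.hom.smoothLocus : Set G.left)ᶜ
    (Flat2D.NoethConstr.isConstructible_of_isOpen G.hom.smoothLocus.2).compl (by
      rw [Set.eq_empty_iff_forall_notMem]
      intro x hx
      refine hx ?_
      have : Smooth (pullback.snd G.hom (loc R L)) := by
        rw [← h.isoPullback_inv_snd]
        infer_instance
      refine (Smoothlim.SmoothLocusBC.mem_smoothLocus_iff_of_isPullback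
        (IsPullback.of_hasPullback G.hom (loc R L)) x (Or.inr hflat)).mp ?_
      rw [Scheme.Hom.smoothLocus_eq_top]
      trivial)
  refine ⟨den j.unop, den_mem _, ?_⟩
  intro T X t q f ht hf
  let U := G.hom.smoothLocus
  have hsm : Smooth (U.ι ≫ G.hom) := by
    rw [← Scheme.Hom.smoothLocus_eq_top_iff, ← Scheme.Hom.preimage_smoothLocus_eq]
    exact U.ι_preimage_self
  have hq : Set.range q ⊆ Set.range U.ι := by
    rw [Scheme.Opens.range_ι]
    rintro _ ⟨x, rfl⟩
    by_contra hx
    -- lift the point to the stage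
    have h1 : G.hom (q x) ∈ Set.range (loc R (Stage j.unop)) := by
      rw [range_loc_away (den j.unop), ← Scheme.Hom.comp_apply, hf.w, Scheme.Hom.comp_apply]
      exact ht _
    obtain ⟨s, hs⟩ := h1
    obtain ⟨z, hz, -⟩ := Scheme.Pullback.exists_preimage_pullback (q x) s hs.symm
    have h2 : z ∈ pullback.fst G.hom (loc R (Stage j.unop)) ⁻¹' (G.hom.smoothLocus : Set G.left)ᶜ := by
      change pullback.fst G.hom (loc R (Stage j.unop)) z ∈ (G.hom.smoothLocus : Set G.left)ᶜ
      rw [hz]
      exact hx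
    rw [hj] at h2
    exact h2
  obtain ⟨q', hq'⟩ : ∃ q' : X ⟶ U, q' ≫ U.ι = q :=
    ⟨IsOpenImmersion.lift U.ι q hq, IsOpenImmersion.lift_fac _ _ _⟩
  rw [← hq'] at hf
  exact MorphismProperty.of_isPullback (P := @Smooth) (isPullback_of_comp_mono hf) hsm

end Groth.Agent.Sga7.H301.PGrp
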