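import Groth.Agent.Sga7.H301.SpreadIso
import Groth.Agent.Sga7.H301.SpreadSch

/-!
# Extending a group scheme over a point of the base

`R` a Noetherian domain, `K` its fraction field, `A` a group over `K`.  `HasExt Q Φ A U`: `A` extends to a group scheme over the
open `U` of `Spec R` with the property `Q` of morphisms and the property `Φ` of fibres.

* `HasExt.step`: if `A` extends over `U` and over a neighbourhood of `x ∉ U` then `A` extends over a bigger open
  containing `U` and `x` (provided nonempty opens have finite complement near `x`).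
-/

set_option autoImplicit false
set_option backward.isDefEq.respectTransparency false
universe u

open CategoryTheory CategoryTheory.Limits AlgebraicGeometry MonObj MonoidalCategory CartesianMonoidalCategory Opposite

namespace Groth.Agent.Sga7.H301.PGrp

section Fib

variable {S : Scheme.{u}}

/-- A property of groups over schemes over `S`. -/
abbrev GProp (S : Scheme.{u}) := ∀ {T : Scheme.{u}} (_ : T ⟶ S) (X : Over T), GrpObj X → Prop

variable {U V : Set S} {G H : Over S}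

/-- All models of `P` over the point `s` have the property `Φ`. -/
def FibOn (Φ : GProp S) (s : S) (P : PGrp U G) : Prop :=
  ∀ {T : Scheme.{u}} (t : T ⟶ S) (_ : ∀ x, t x = s) (X : Over T) (gX : GrpObj X) (q : X.left ⟶ G.left),
    IsModel P t X q → Φ t X gX

theorem FibOn.of_agree {Φ : GProp S} {s : S} (hs : s ∈ U) {P : PGrp U G} {Q : PGrp V G}
    (h : FibOn @Φ s P) (hPQ : Agree P Q) : FibOn @Φ s Q :=
  fun t ht X gX q hq => h t ht X gX q (hq.of_agree hPQ (fun x => by rw [ht]; exact hs))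

theorem FibOn.ofBij {Φ : GProp S} {s : S} {P : PGrp U G} (h : FibOn @Φ s P) (i : G ⟶ H) (hi : BijOn U i) :
    FibOn @Φ s (P.ofBij i hi) := by
  intro T t ht X gX q hq
  obtain ⟨q', -, h'⟩ := hq.exists_of_ofBij
  exact h t ht X gX q' h'

theorem FibOn.comapBij {Φ : GProp S} {s : S} {P : PGrp U H} (h : FibOn @Φ s P) (i : G ⟶ H)
    (hi : BijOn U i) : FibOn @Φ s (P.comapBij i hi) :=
  fun t ht X gX _ hq => h t ht X gX _ hq.of_comapBij

theorem FibOn.res {Φ : GProp S} {s : S} {P : PGrp U G} (h : FibOn @Φ s P) (hVU : V ⊆ U) :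
    FibOn @Φ s (P.res hVU) :=
  fun t ht X gX _ hq => h t ht X gX _ hq.of_res

theorem PropOn.comap {Q : MorphismProperty Scheme.{u}} (h : PropOn Q U H) {i : G ⟶ H}
    (hi : BijOn U i) : PropOn Q U G := by
  intro T X t q f ht hf
  exact h t _ f ht (hi.isPullback ht hf)

theorem IsModel.of_iso {P : PGrp U G} {T : Scheme.{u}} {t : T ⟶ S} {X X' : Over T} [GrpObj X] [GrpObj X']
    {q : X.left ⟶ G.left} (h : IsModel P t X q) (e : X' ≅ X) [IsMonHom e.hom] :
    IsModel P t X' (e.hom.left ≫ q) where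
  isPullback := by
    have i1 : IsIso e.hom.left := inferInstanceAs (IsIso ((Over.forget _).map e.hom))
    refine IsPullback.of_iso h.isPullback (asIso e.hom.left).symm (Iso.refl _) (Iso.refl _) (Iso.refl _)
      ?_ ?_ ?_ ?_
    · simp
    · rw [Iso.refl_hom, Category.comp_id, Iso.symm_hom, asIso_inv, IsIso.eq_inv_comp]
      exact Over.w e.hom
    · simp
    · simp
  lies := h.lies
  mul {Z} x y := by
    ext1
    have h1 := congrArg CommaMorphism.left (h.toS_mul (x ≫ e.hom) (y ≫ e.hom))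
    rw [← MonObj.mul_comp] at h1
    simpa [toS] using h1

end Fib

section Lies

variable {S : Scheme.{u}} {G : Over S}

/-- Over `U`, the property of `G` over `U` is the property of the morphism to `U`. -/
theorem PropOn.prop_of_lies {Q : MorphismProperty Scheme.{u}} {U : S.Opens} (h : PropOn Q (U : Set S) G)
    {f : G.left ⟶ U} (hf : f ≫ U.ι = G.hom) : Q f := by
  refine h U.ι (𝟙 G.left) f (fun x => x.2) ?_
  rw [← hf]
  refine ⟨⟨by simp⟩, ⟨PullbackCone.IsLimit.mk _ (fun s => s.fst) ?_ ?_ ?_⟩⟩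
  · intro s
    simp
  · intro s
    rw [← cancel_mono U.ι, Category.assoc]
    exact s.condition
  · intro s m h1 _
    simpa using h1

end Lies

variable {R : Type u} [CommRing R] {K : Type u} [CommRing K] [Algebra R K]

/-- `A` extends to a group over the open `U` of `Spec R`. -/
def HasExt (Q : MorphismProperty Scheme.{u}) (Φ : GProp (Spec (CommRingCat.of R)))
    (A : Over (Spec (CommRingCat.of K))) [GrpObj A] (U : (Spec (CommRingCat.of R)).Opens) : Prop :=
  ∃ (G : Over (Spec (CommRingCat.of R))) (P : PGrp (U : Set (Spec (CommRingCat.of R))) G)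
    (q : A.left ⟶ G.left), Lies (U : Set (Spec (CommRingCat.of R))) G ∧ IsModel P (loc R K) A q ∧
      PropOn Q (U : Set (Spec (CommRingCat.of R))) G ∧ ∀ s ∈ U, FibOn @Φ s P

variable {Q : MorphismProperty Scheme.{u}} {Φ : GProp (Spec (CommRingCat.of R))}
  {A : Over (Spec (CommRingCat.of K))} [GrpObj A]

/-- Restricting the total space. -/
theorem HasExt.of_model {U : (Spec (CommRingCat.of R)).Opens} {G : Over (Spec (CommRingCat.of R))}
    {V : Set (Spec (CommRingCat.of R))} (P : PGrp V G) (hUV : (U : Set (Spec (CommRingCat.of R))) ⊆ V)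
    (q : A.left ⟶ G.left) (h : IsModel P (loc R K) A q) (hK : ∀ x, loc R K x ∈ U)
    (hQ : PropOn Q (U : Set (Spec (CommRingCat.of R))) G) (hΦ : ∀ s ∈ U, FibOn @Φ s P) :
    HasExt Q @Φ A U := by
  obtain ⟨q', hq', h'⟩ := (h.res hUV hK).exists_comapBij (opnι G U) (bijOn_opnι G U)
  exact ⟨opn G U, (P.res hUV).comapBij (opnι G U) (bijOn_opnι G U), q', lies_opn _ _, h',
    hQ.comap (bijOn_opnι G U), fun s hs => FibOn.comapBij (FibOn.res (hΦ s hs) hUV) _ _⟩

/-- Finiteness properties of an extension. -/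
theorem finiteness_of_propOn [IsNoetherianRing R] (hQ1 : Q ≤ @LocallyOfFinitePresentation)
    (hQ2 : Q ≤ @QuasiCompact) (hQ3 : Q ≤ @QuasiSeparated) {U : (Spec (CommRingCat.of R)).Opens}
    {G : Over (Spec (CommRingCat.of R))} (hG : Lies (U : Set (Spec (CommRingCat.of R))) G)
    (h : PropOn Q (U : Set (Spec (CommRingCat.of R))) G) :
    LocallyOfFinitePresentation G.hom ∧ QuasiCompact G.hom ∧ QuasiSeparated G.hom := by
  obtain ⟨f, hf⟩ := exists_toOpens G U hG
  have hQf : Q f := h.prop_of_lies hf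
  have n1 : IsNoetherian (Spec (CommRingCat.of R)) := inferInstance
  have n2 : CompactSpace U := isCompact_iff_compactSpace.mp (TopologicalSpace.NoetherianSpace.isCompact _)
  have n3 : QuasiCompact U.ι := quasiCompact_of_compactSpace _
  refine ⟨?_, ?_, ?_⟩
  · rw [← hf]
    exact MorphismProperty.comp_mem _ f U.ι (hQ1 _ hQf) inferInstance
  · rw [← hf]
    exact MorphismProperty.comp_mem _ f U.ι (hQ2 _ hQf) inferInstance
  · rw [← hf]
    exact MorphismProperty.comp_mem _ f U.ι (hQ3 _ hQf) inferInstance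

section Step

variable (M : Submonoid R) [IsLocalization M K]

/-- **Adding a point.** -/
theorem HasExt.step [IsNoetherianRing R] [IsZariskiLocalAtTarget Q]
    (hQ1 : Q ≤ @LocallyOfFinitePresentation)
    (hQ2 : Q ≤ @QuasiCompact) (hQ3 : Q ≤ @QuasiSeparated) {U : (Spec (CommRingCat.of R)).Opens}
    (hU : HasExt Q @Φ A U) (b : R) (hb : b ∈ M) (hbU : bo b ≤ U)
    (x : Spec (CommRingCat.of R)) (hx : x ∉ U) (g : R) (hg : g ∈ M) (hxg : x ∈ bo g)
    (hfin : ∀ a ∈ M, ∃ h ∈ M, x ∈ bo h ∧ (bo h : Set (Spec (CommRingCat.of R))) ⊆ (bo a : Set _) ∪ {x})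
    {G₁ : Over (Spec (CommRingCat.of R))} [LocallyOfFinitePresentation G₁.hom] [QuasiCompact G₁.hom]
    [QuasiSeparated G₁.hom] (P₁ : PGrp (bo g : Set (Spec (CommRingCat.of R))) G₁) (q₁ : A.left ⟶ G₁.left)
    (h₁ : IsModel P₁ (loc R K) A q₁) (hQ₁ : PropOn Q (bo g : Set (Spec (CommRingCat.of R))) G₁)
    (hΦ₁ : FibOn @Φ x P₁) :
    ∃ V : (Spec (CommRingCat.of R)).Opens, U ≤ V ∧ x ∈ V ∧ HasExt Q @Φ A V := by
  obtain ⟨G₀, P₀, q₀, hG₀, h₀, hQ₀, hΦ₀⟩ := hU
  obtain ⟨f1, f2, f3⟩ := finiteness_of_propOn hQ1 hQ2 hQ3 hG₀ hQ₀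
  have hbg : b * g ∈ M := M.mul_mem hb hg
  obtain ⟨m, hm, u, q, hu, hq0, hq1, k, hk, hmk, hgk, hag⟩ := exists_iso_grp M K h₀ h₁ (b * g) hbg
    ((bo_le ⟨g, rfl⟩).trans hbU) (bo_le ⟨b, mul_comm _ _⟩)
  obtain ⟨h, hh, hxh, hhk⟩ := hfin k hk
  let U₁ : (Spec (CommRingCat.of R)).Opens := bo (g * h)
  have hU₁g : (U₁ : Set (Spec (CommRingCat.of R))) ⊆ bo g := bo_le ⟨h, rfl⟩
  have hU₁h : (U₁ : Set (Spec (CommRingCat.of R))) ⊆ bo h := bo_le ⟨g, mul_comm _ _⟩
  have hxU₁ : x ∈ U₁ := by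
    change g * h ∉ (x : PrimeSpectrum R).asIdeal
    intro h3
    rcases (x : PrimeSpectrum R).2.mem_or_mem h3 with h4 | h4
    · exact hxg h4
    · exact hxh h4
  have hkU : (bo k : Set (Spec (CommRingCat.of R))) ⊆ U :=
    (bo_le hgk).trans ((bo_le ⟨g, rfl⟩).trans hbU)
  have hkm : (bo k : Set (Spec (CommRingCat.of R))) ⊆ bo m := bo_le hmk
  have hint : (U : Set (Spec (CommRingCat.of R))) ∩ U₁ ⊆ bo k := by
    rintro y ⟨hy, hy1⟩
    rcases hhk (hU₁h hy1) with h3 | h3
    · exact h3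
    · rw [Set.mem_singleton_iff] at h3
      exact absurd (h3 ▸ hy) hx
  -- the pieces
  let b₁ : BijOn (U₁ : Set (Spec (CommRingCat.of R))) (opnι G₁ U₁) := bijOn_opnι G₁ U₁
  let P₁' : PGrp (U₁ : Set (Spec (CommRingCat.of R))) (opn G₁ U₁) :=
    (P₁.res hU₁g).comapBij (opnι G₁ U₁) b₁
  let N := opn G₀ U₁
  have hN1 : Lies (U₁ : Set (Spec (CommRingCat.of R))) N := lies_opn _ _
  have hN0 : Lies (U : Set (Spec (CommRingCat.of R))) N := hG₀.comp (opnι G₀ U₁)
  have hNk : Lies (bo k : Set (Spec (CommRingCat.of R))) N := fun z => hint ⟨hN0 z, hN1 z⟩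
  have hNm : Lies (bo m : Set (Spec (CommRingCat.of R))) N := hNk.mono hkm
  let i₀ : N ⟶ G₀ := opnι G₀ U₁
  let c : N ⟶ opn G₀ (bo m) := opnLift hNm (opnι G₀ U₁)
  have hc : c ≫ opnι G₀ (bo m) = i₀ := opnLift_ι _ _
  let i₁ : N ⟶ opn G₁ U₁ := opnLift hN1 (c ≫ u ≫ opnι G₁ (bo m))
  have hi₁ : i₁ ≫ opnι G₁ U₁ = c ≫ u ≫ opnι G₁ (bo m) := opnLift_ι _ _
  have oi₀ : IsOpenImmersion i₀.left := inferInstance
  have oc : IsOpenImmersion c.left := by
    have h3 : IsOpenImmersion (c.left ≫ (opnι G₀ (bo m)).left) := by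
      have h4 : c.left ≫ (opnι G₀ (bo m)).left = i₀.left := congrArg CommaMorphism.left hc
      rw [h4]
      exact oi₀
    exact IsOpenImmersion.of_comp c.left (opnι G₀ (bo m)).left
  have iu : IsIso u.left := inferInstanceAs (IsIso ((Over.forget _).map u))
  have oi₁ : IsOpenImmersion i₁.left := by
    have h3 : IsOpenImmersion (i₁.left ≫ (opnι G₁ U₁).left) := by
      have h4 : i₁.left ≫ (opnι G₁ U₁).left = c.left ≫ u.left ≫ (opnι G₁ (bo m)).left :=
        congrArg CommaMorphism.left hi₁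
      rw [h4]
      infer_instance
    exact IsOpenImmersion.of_comp i₁.left (opnι G₁ U₁).left
  have bc : BijOn ((U : Set (Spec (CommRingCat.of R))) ∩ U₁) c := by
    refine BijOn.of_comp (j := opnι G₀ (bo m)) ?_ (BijOn.mono (bijOn_opnι G₀ (bo m)) (hint.trans hkm))
    rw [hc]
    exact BijOn.mono (bijOn_opnι G₀ U₁) Set.inter_subset_right
  have bi₁ : BijOn ((U : Set (Spec (CommRingCat.of R))) ∩ U₁) i₁ := by
    refine BijOn.of_comp (j := opnι G₁ U₁) ?_ (b₁.mono Set.inter_subset_right)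
    rw [hi₁]
    exact BijOn.comp bc (BijOn.comp (bijOn_of_isIso _ u)
      (BijOn.mono (bijOn_opnι G₁ (bo m)) (hint.trans hkm)))
  obtain ⟨G, e₀, e₁, he₀, he₁, hcomm, hG, b₀', b₁', P, hP₀, hP₁⟩ := exists_glue_grp P₀ P₁' i₀ i₁ hG₀
    (lies_opn G₁ U₁) (by
      intro y hy
      rw [range_opnι]
      exact hy) (by
      intro y hy
      exact bi₁.mem_range y ⟨hy, lies_opn G₁ U₁ y⟩) (by
      intro Z h0 h1 a a'
      have hZk : Lies (bo k : Set (Spec (CommRingCat.of R))) Z := fun z => hint ⟨h0 z, h1 z⟩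
      obtain ⟨z', hz0, hz1⟩ := hag hZk h0 (h1.mono hU₁g) (a ≫ c) (a' ≫ c)
      let z : Z ⟶ N := opnLift h1 (z' ≫ opnι G₀ (bo m))
      have hz : z ≫ i₀ = z' ≫ opnι G₀ (bo m) := opnLift_ι _ _
      have hzc : z ≫ c = z' := by
        rw [← cancel_mono (opnι G₀ (bo m)), Category.assoc, hc, hz]
      refine ⟨z, ?_, ?_⟩
      · rw [hz, ← hz0, Category.assoc, Category.assoc, hc]
      · rw [← cancel_mono (opnι G₁ U₁), comapBij_mul, Category.assoc, Category.assoc, Category.assoc,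
          hi₁, ← Category.assoc z, hzc, ← hz1]
        change P₁.mul _ _ _ = P₁.mul _ _ _
        simp only [Category.assoc])
  refine ⟨U ⊔ U₁, le_sup_left, Or.inr hxU₁, G, P, q₀ ≫ e₀.left, hG, ?_, ?_, ?_⟩
  · exact (h₀.ofBij e₀ b₀').of_agree hP₀ (fun y => Or.inl (h₀.lies y))
  · exact PropOn.sup (hQ₀.of_bijOn b₀') (PropOn.of_bijOn (PropOn.comap (hQ₁.mono hU₁g) b₁) b₁')
  · intro s hs
    by_cases hsU : s ∈ U
    · exact FibOn.of_agree (U := (U : Set (Spec (CommRingCat.of R)))) hsU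
        (FibOn.ofBij (hΦ₀ s hsU) e₀ b₀') hP₀.symm
    · have hs1 : s ∈ U₁ := hs.resolve_left hsU
      have hsx : s = x := by
        rcases hhk (hU₁h hs1) with h3 | h3
        · exact absurd (hkU h3) hsU
        · exact h3
      subst hsx
      exact FibOn.of_agree (U := (U₁ : Set (Spec (CommRingCat.of R)))) hs1
        (FibOn.ofBij (FibOn.comapBij (FibOn.res hΦ₁ hU₁g) _ b₁) e₁ b₁') hP₁.symm

end Step

end Groth.Agent.Sga7.H301.PGrp
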