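import Groth.Agent.Sga7.H301.NoGa
import Groth.Agent.FlatB.GenFibIrrSch

/-!
# The fibre condition of good reduction
-/

set_option autoImplicit false
set_option backward.isDefEq.respectTransparency false
universe u

open CategoryTheory CategoryTheory.Limits AlgebraicGeometry MonObj MonoidalCategory CartesianMonoidalCategory Opposite

namespace Groth.Agent.Sga7.H301.PGrp

/-- Spreading out geometric irreducibility. -/
theorem exists_propOn_geometricallyIrreducible {R : Type u} [CommRing R] [IsDomain R] {K : Type u} [Field K]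
    [Algebra R K] [IsFractionRing R K] {G : Over (Spec (CommRingCat.of R))} {X : Over (Spec (CommRingCat.of K))}
    {q : X.left ⟶ G.left} [LocallyOfFiniteType G.hom] [QuasiCompact G.hom]
    (h : IsPullback q X.hom G.hom (loc R K)) (hP : GeometricallyIrreducible X.hom) :
    ∃ m ∈ nonZeroDivisors R, PropOn @GeometricallyIrreducible (bo m : Set (Spec (CommRingCat.of R))) G := by
  have hη : genericPoint (Spec (CommRingCat.of R)) ∈ Set.range (loc R K) := by
    have h1 : IsDominant (loc R K) := by
      refine ⟨?_⟩
      have h2 : Function.Injective (algebraMap R K) := IsFractionRing.injective R K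
      exact PrimeSpectrum.denseRange_comap_iff_ker_le_nilRadical (algebraMap R K) |>.mpr (by
        rw [(RingHom.injective_iff_ker_eq_bot _).mp h2]
        exact bot_le)
    refine ⟨genericPoint (Spec (CommRingCat.of K)), ?_⟩
    have h3 := (genericPoint_spec (Spec (CommRingCat.of K))).image (loc R K).continuous
    have h4 : closure (Set.range (loc R K)) = Set.univ := h1.denseRange.closure_eq
    refine h3.eq ?_
    change IsGenericPoint _ _
    rw [Set.image_univ, h4]
    exact genericPoint_spec _
  have hgen : GeometricallyIrreducible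
      (G.hom.fiberToSpecResidueField (genericPoint (Spec (CommRingCat.of R)))) := by
    obtain ⟨t', ht'⟩ := (isLoc_loc (nonZeroDivisors R) K).exists_lift
      ((Spec (CommRingCat.of R)).fromSpecResidueField (genericPoint (Spec (CommRingCat.of R)))) (by
        intro z
        rw [Scheme.fromSpecResidueField_apply]
        exact hη)
    have h5 : IsPullback (G.hom.fiberι (genericPoint (Spec (CommRingCat.of R))))
        (G.hom.fiberToSpecResidueField (genericPoint (Spec (CommRingCat.of R)))) G.hom
        ((Spec (CommRingCat.of R)).fromSpecResidueField (genericPoint (Spec (CommRingCat.of R)))) :=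
      IsPullback.of_hasPullback _ _
    rw [← ht'] at h5
    exact MorphismProperty.of_isPullback (IsPullback.of_right' h5 h) hP
  obtain ⟨V, ⟨y, hy⟩, hV⟩ := Groth.Agent.FlatB.GenFibIrrSch.exists_opens G.hom hgen
  obtain ⟨_, ⟨m, rfl⟩, hym, hmV⟩ := PrimeSpectrum.isTopologicalBasis_basic_opens.exists_subset_of_mem_open
    hy V.isOpen
  refine ⟨m, mem_nonZeroDivisors_of_ne_zero ?_, ?_⟩
  · rintro rfl
    exact hym (Ideal.zero_mem _)
  · intro T Z t p f ht hf
    obtain ⟨t', ht'⟩ : ∃ t' : T ⟶ V, t' ≫ V.ι = t :=
      ⟨IsOpenImmersion.lift V.ι t (by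
        rw [Scheme.Opens.range_ι]
        rintro _ ⟨x, rfl⟩
        exact hmV (ht x)), IsOpenImmersion.lift_fac _ _ _⟩
    subst ht'
    exact MorphismProperty.of_isPullback (IsPullback.of_right' hf (isPullback_morphismRestrict G.hom V).flip) hV

/-- The property of groups corresponding to connected geometric fibres. -/
def PhiCon (S : Scheme.{u}) : GProp S := fun {T} _ X _ =>
  ∀ (k : Type u) [Field k] (_ : Spec (CommRingCat.of k) ≅ T), ConnectedSpace X.left

theorem fibOn_con_of_geometricallyIrreducible {S : Scheme.{u}} {U : Set S} {G : Over S} {P : PGrp U G}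
    (h : PropOn @GeometricallyIrreducible U G) (s : S) : FibOn (@PhiCon S) s P := by
  intro T t ht X gX q hq k _ φ
  have h1 : GeometricallyIrreducible X.hom := h t q X.hom hq.lies hq.isPullback
  have h2 : IrreducibleSpace X.left := by
    refine h1.geometrically_irreducibleSpace φ.hom (𝟙 X.left) (X.hom ≫ φ.inv) ?_
    exact IsPullback.of_horiz_isIso ⟨by simp⟩
  infer_instance

/-- Base change. -/
theorem phiCon_bc {S S' : Scheme.{u}} (f : S' ⟶ S) {X : Over S'} [GrpObj X]
    (hX : ∀ (k' : Type u) [Field k'] (t : Spec (CommRingCat.of k') ⟶ S'), ConnectedSpace ↑(pullback X.hom t))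
    {T : Scheme.{u}} (t' : T ⟶ S') {X' : Over T} {gX' : GrpObj X'}
    (e : X' ≅ Red.bc t' X) : PhiCon S (t' ≫ f) X' gX' := by
  intro k _ φ
  have h1 := hX k (φ.hom ≫ t')
  have i1 : IsIso e.hom.left := inferInstanceAs (IsIso ((Over.forget _).map e.hom))
  have h2 : IsPullback (e.hom.left ≫ pullback.fst X.hom t') (X'.hom ≫ φ.inv) X.hom (φ.hom ≫ t') := by
    refine IsPullback.of_iso (IsPullback.of_hasPullback X.hom t') (asIso e.hom.left).symm (Iso.refl _)
      φ.symm (Iso.refl _) ?_ ?_ ?_ ?_
    · simp
    · change pullback.snd X.hom t' ≫ φ.inv = CategoryTheory.inv e.hom.left ≫ X'.hom ≫ φ.inv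
      rw [IsIso.eq_inv_comp, ← Category.assoc]
      congr 1
      exact Over.w e.hom
    · simp
    · simp
  have h3 := h2.isoPullback
  exact h3.hom.homeomorph.symm.surjective.connectedSpace h3.hom.homeomorph.symm.continuous

/-- The final form. -/
theorem connectedSpace_of_fibOn {S : Scheme.{u}} {G : Over S} [GrpObj G] {U : Set S}
    (hU : ∀ s, s ∈ U) (h : ∀ s, FibOn (@PhiCon S) s (ofGrpObj G U)) (k' : Type u) [Field k']
    (t : Spec (CommRingCat.of k') ⟶ S) : ConnectedSpace ↑(pullback G.hom t) := by
  let p : Spec (CommRingCat.of k') := IsLocalRing.closedPoint _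
  have hp : ∀ x, t x = t p := fun x => congrArg t (Subsingleton.elim x p)
  exact h (t p) t hp _ _ _ (isModel_bc G U t (fun x => hU _)) k' (Iso.refl _)

end Groth.Agent.Sga7.H301.PGrp
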