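import Groth.Agent.Sga7.H301.NoGa

/-!
# The fibre condition of semistable reduction
-/

set_option autoImplicit false
set_option backward.isDefEq.respectTransparency false
universe u

open CategoryTheory CategoryTheory.Limits AlgebraicGeometry MonObj MonoidalCategory CartesianMonoidalCategory Opposite

namespace Groth.Agent.Sga7.H301.PGrp

open Groth.Agent.Sga3B Groth.Agent.Sga3B.RedIso Groth.Agent.Sga3B.Parab.GeomFib147

/-- Over an open over which the model is proper. -/
theorem fibOn_ss_of_proper {S : Scheme.{u}} {U : Set S} {G : Over S} {P : PGrp U G}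
    (h : PropOn @IsProper U G) (s : S) : FibOn (@PhiSS S) s P := by
  intro T t ht X gX q hq s' φ hφ
  have h1 : IsProper X.hom := h t q X.hom hq.lies hq.isPullback
  exact noGa_of_universallyClosed φ h1.toUniversallyClosed

theorem geomPt_apply {S : Scheme.{u}} (s : S)
    (p : Spec (CommRingCat.of (AlgebraicClosure (S.residueField s)))) : (Red.geomPt s) p = s := by
  change (Spec.map (CommRingCat.ofHom (algebraMap (S.residueField s) (AlgebraicClosure (S.residueField s)))) ≫
    S.fromSpecResidueField s) p = s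
  rw [Scheme.Hom.comp_apply]
  exact Scheme.fromSpecResidueField_apply s _

/-- Base change to a geometric point. -/
theorem phiSS_bc {S S' : Scheme.{u}} (f : S' ⟶ S) [LocallyQuasiFinite f] [Mono f] {X : Over S'} [GrpObj X]
    (hX : SGA7.FibresUnipotentRankZero X) {T : Scheme.{u}} (t' : T ⟶ S') {X' : Over T} {gX' : GrpObj X'}
    (e : X' ≅ Red.bc t' X) (he : IsMonHom e.hom) : PhiSS S (t' ≫ f) X' gX' := by
  intro s φ hφ
  obtain ⟨s', hs'⟩ : ∃ s' : S', f s' = s := by
    let p : Spec (CommRingCat.of (AlgebraicClosure (S.residueField s))) := IsLocalRing.closedPoint _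
    refine ⟨t' (φ p), ?_⟩
    have h1 : (φ ≫ t' ≫ f) p = (Red.geomPt s) p := by rw [hφ]
    have h2 : (Red.geomPt s) p = s := geomPt_apply s p
    rw [h2] at h1
    exact h1
  subst hs'
  obtain ⟨φ', hφ', hsq⟩ := exists_geomPt f s'
  have hψ : (φ' ≫ φ) ≫ t' = Red.geomPt s' := by
    rw [← cancel_mono f, hsq, ← hφ]
    simp only [Category.assoc]
  refine NoGa.of_bc (φ' ≫ φ) ?_
  have h1 : NoGa (Red.bc (Red.geomPt s') X) inferInstance := hX s'
  let e2 := BcIso.bcCompIso (φ' ≫ φ) t' X
  let e3 := BcIso.bcCongrIso hψ X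
  have h2 : NoGa (Red.bc ((φ' ≫ φ) ≫ t') X) inferInstance :=
    NoGa.of_iso h1 (und e3) (inferInstanceAs (IsMonHom (und e3).hom))
  have h3 : NoGa (Red.bc (φ' ≫ φ) (Red.bc t' X)) inferInstance :=
    NoGa.of_iso h2 (und e2.symm) (inferInstanceAs (IsMonHom (und e2.symm).hom))
  exact NoGa.of_iso h3 ((Over.pullback (φ' ≫ φ)).mapIso e)
    (inferInstanceAs (IsMonHom ((Over.pullback (φ' ≫ φ)).map e.hom)))

/-- The final form. -/
theorem fibresUnipotentRankZero_of_fibOn {S : Scheme.{u}} {G : Over S} [GrpObj G] {U : Set S}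
    (hU : ∀ s, s ∈ U) (h : ∀ s, FibOn (@PhiSS S) s (ofGrpObj G U)) : SGA7.FibresUnipotentRankZero G := by
  intro s
  have h2 : ∀ x, (Red.geomPt s) x = s := fun x => geomPt_apply s x
  exact h s (Red.geomPt s) h2 _ _ _ (isModel_bc G U (Red.geomPt s) (fun x => hU _)) s (𝟙 _) (Category.id_comp _)

end Groth.Agent.Sga7.H301.PGrp
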