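import Groth.Agent.Sga7.H301.Opn

/-!
# Gluing partial group structures

* `hom_ext_cover`, `exists_glue_hom`: the Zariski sheaf condition for morphisms of `S`-schemes, for a family of opens of `S`;
* `exists_glue`: partial group structures over opens `U i` which agree on the overlaps glue.
-/

set_option autoImplicit false
set_option backward.isDefEq.respectTransparency false
universe u

open CategoryTheory CategoryTheory.Limits AlgebraicGeometry MonObj MonoidalCategory CartesianMonoidalCategory Opposite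

namespace Groth.Agent.Sga7.H301.PGrp

variable {S : Scheme.{u}} {J : Type} (U : J → S.Opens) {G : Over S}

/-- The open cover of `Z`. -/
noncomputable def zcover {Z : Over S} (hZ : Lies (⋃ i, (U i : Set S)) Z) : Z.left.OpenCover :=
  Z.left.openCoverOfIsOpenCover (fun i => Z.hom ⁻¹ᵁ U i) (by
    rw [TopologicalSpace.IsOpenCover, eq_top_iff]
    intro z _
    obtain ⟨i, hi⟩ := Set.mem_iUnion.mp (hZ z)
    exact TopologicalSpace.Opens.mem_iSup.mpr ⟨i, hi⟩)

theorem hom_ext_cover {Z : Over S} (hZ : Lies (⋃ i, (U i : Set S)) Z) (m m' : Z ⟶ G)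
    (h : ∀ (i : J) {T : Over S} (a : T ⟶ Z), Lies (U i : Set S) T → a ≫ m = a ≫ m') : m = m' := by
  ext1
  refine (zcover U hZ).hom_ext _ _ fun i => ?_
  exact congrArg CommaMorphism.left (h i (opnι Z (U i)) (lies_opn _ _))

theorem exists_glue_hom {Z : Over S} (hZ : Lies (⋃ i, (U i : Set S)) Z)
    (m : ∀ (i : J) {T : Over S} (_ : T ⟶ Z), Lies (U i : Set S) T → (T ⟶ G))
    (hm : ∀ (i j : J) {T T' : Over S} (a : T ⟶ Z) (b : T' ⟶ T) (h : Lies (U i : Set S) T)
      (h' : Lies (U j : Set S) T'), b ≫ m i a h = m j (b ≫ a) h') :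
    ∃ M : Z ⟶ G, ∀ (i : J) {T : Over S} (a : T ⟶ Z) (h : Lies (U i : Set S) T), a ≫ M = m i a h := by
  let f : ∀ i, (zcover U hZ).X i ⟶ G.left := fun i => (m i (opnι Z (U i)) (lies_opn _ _)).left
  have hf : ∀ i j, pullback.fst ((zcover U hZ).f i) ((zcover U hZ).f j) ≫ f i =
      pullback.snd ((zcover U hZ).f i) ((zcover U hZ).f j) ≫ f j := by
    intro i j
    let T : Over S := Over.mk (pullback.fst ((zcover U hZ).f i) ((zcover U hZ).f j) ≫ (opn Z (U i)).hom)
    let a : T ⟶ opn Z (U i) := Over.homMk (pullback.fst ((zcover U hZ).f i) ((zcover U hZ).f j)) rfl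
    let b : T ⟶ opn Z (U j) := Over.homMk (pullback.snd ((zcover U hZ).f i) ((zcover U hZ).f j)) (by
      change _ ≫ (opn Z (U j)).hom = _ ≫ (opn Z (U i)).hom
      rw [opn_hom, opn_hom, ← Category.assoc, ← Category.assoc]
      congr 1
      exact pullback.condition.symm)
    have hab : a ≫ opnι Z (U i) = b ≫ opnι Z (U j) := by
      ext1
      exact pullback.condition
    have h1 := hm i i (opnι Z (U i)) a (lies_opn _ _) ((lies_opn _ _).comp a)
    have h2 := hm j i (opnι Z (U j)) b (lies_opn _ _) ((lies_opn _ _).comp a)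
    have h4 : ∀ {T : Over S} (c d : T ⟶ Z) (_ : c = d) (h : Lies (U i : Set S) T), m i c h = m i d h := by
      rintro T c _ rfl h
      rfl
    have h3 : a ≫ m i (opnι Z (U i)) (lies_opn _ _) = b ≫ m j (opnι Z (U j)) (lies_opn _ _) := by
      rw [h1, h2]
      exact h4 _ _ hab _
    exact congrArg CommaMorphism.left h3
  have hM : ∀ i, (zcover U hZ).f i ≫ (zcover U hZ).glueMorphisms f hf = f i :=
    fun i => (zcover U hZ).ι_glueMorphisms f hf i
  have hw : (zcover U hZ).glueMorphisms f hf ≫ G.hom = Z.hom := by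
    refine (zcover U hZ).hom_ext _ _ fun i => ?_
    rw [← Category.assoc, hM]
    exact (Over.w _).trans (opn_hom _ _)
  refine ⟨Over.homMk ((zcover U hZ).glueMorphisms f hf) hw, ?_⟩
  · intro i T a h
    have h1 := hm i i (opnι Z (U i)) (opnLift h a) (lies_opn _ _) h
    rw [opnLift_ι] at h1
    have h2 : a ≫ Over.homMk ((zcover U hZ).glueMorphisms f hf) hw = opnLift h a ≫ opnι Z (U i) ≫
        Over.homMk ((zcover U hZ).glueMorphisms f hf) hw := by
      rw [← Category.assoc, opnLift_ι]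
    rw [← h1, h2]
    congr 1
    ext1
    exact hM i

/-- Agreement of partial group structures on schemes over a subset. -/
def Agree {U V : Set S} (P : PGrp U G) (Q : PGrp V G) : Prop :=
  ∀ {Z : Over S} (h1 : Lies U Z) (h2 : Lies V Z) (x y : Z ⟶ G), P.mul h1 x y = Q.mul h2 x y

theorem Agree.one {U V : Set S} {P : PGrp U G} {Q : PGrp V G} (h : Agree P Q) {Z : Over S}
    (h1 : Lies U Z) (h2 : Lies V Z) : P.one h1 = Q.one h2 := by
  letI := P.group h1
  have h3 : (Q.one h2) * (Q.one h2) = (Q.one h2 : Z ⟶ G) := by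
    change P.mul h1 _ _ = _
    rw [h h1 h2, Q.one_mul]
  exact (mul_eq_left.mp h3).symm

theorem Agree.inv {U V : Set S} {P : PGrp U G} {Q : PGrp V G} (h : Agree P Q) {Z : Over S}
    (h1 : Lies U Z) (h2 : Lies V Z) (x : Z ⟶ G) : P.inv h1 x = Q.inv h2 x := by
  letI := P.group h1
  have h3 : (Q.inv h2 x) * x = (1 : Z ⟶ G) := by
    change P.mul h1 _ _ = P.one h1
    rw [h h1 h2, Q.inv_mul, h.one h1 h2]
  exact (eq_inv_of_mul_eq_one_left h3).symm

theorem Agree.refl {U : Set S} (P : PGrp U G) : Agree P P := fun _ _ _ _ => rfl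

theorem Agree.symm {U V : Set S} {P : PGrp U G} {Q : PGrp V G} (h : Agree P Q) : Agree Q P :=
  fun h1 h2 x y => (h h2 h1 x y).symm

/-- **Gluing partial group structures.** -/
theorem exists_glue (P : ∀ i, PGrp (U i : Set S) G) (hP : ∀ i j, Agree (P i) (P j)) :
    ∃ Q : PGrp (⋃ i, (U i : Set S)) G, ∀ i, Agree Q (P i) := by
  have hmul : ∀ {Z : Over S} (_ : Lies (⋃ i, (U i : Set S)) Z) (x y : Z ⟶ G),
      ∃ M : Z ⟶ G, ∀ (i : J) {T : Over S} (a : T ⟶ Z) (h : Lies (U i : Set S) T),
        a ≫ M = (P i).mul h (a ≫ x) (a ≫ y) := by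
    intro Z hZ x y
    refine exists_glue_hom U hZ (fun i {T} a h => (P i).mul h (a ≫ x) (a ≫ y)) ?_
    intro i j T T' a b h h'
    rw [(P i).comp_mul b h (h.comp b), ← Category.assoc, ← Category.assoc]
    exact hP i j _ _ _ _
  have hone : ∀ {Z : Over S} (_ : Lies (⋃ i, (U i : Set S)) Z),
      ∃ M : Z ⟶ G, ∀ (i : J) {T : Over S} (a : T ⟶ Z) (h : Lies (U i : Set S) T),
        a ≫ M = (P i).one h := by
    intro Z hZ
    refine exists_glue_hom U hZ (fun i {T} a h => (P i).one h) ?_
    intro i j T T' a b h h'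
    rw [(P i).comp_one b h (h.comp b)]
    exact Agree.one (hP i j) _ _
  have hinv : ∀ {Z : Over S} (_ : Lies (⋃ i, (U i : Set S)) Z) (x : Z ⟶ G),
      ∃ M : Z ⟶ G, ∀ (i : J) {T : Over S} (a : T ⟶ Z) (h : Lies (U i : Set S) T),
        a ≫ M = (P i).inv h (a ≫ x) := by
    intro Z hZ x
    refine exists_glue_hom U hZ (fun i {T} a h => (P i).inv h (a ≫ x)) ?_
    intro i j T T' a b h h'
    rw [(P i).comp_inv b h (h.comp b), ← Category.assoc]
    exact Agree.inv (hP i j) _ _ _
  choose mulQ hmulQ using @hmul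
  choose oneQ honeQ using @hone
  choose invQ hinvQ using @hinv
  refine ⟨
    { mul := fun {Z} h x y => mulQ h x y
      one := fun {Z} h => oneQ h
      inv := fun {Z} h x => invQ h x
      mul_assoc := fun {Z} h x y z => by
        refine hom_ext_cover U h _ _ fun i {T} a hT => ?_
        rw [hmulQ h _ _ i a hT, hmulQ h _ _ i a hT, hmulQ h _ _ i a hT, hmulQ h _ _ i a hT,
          (P i).mul_assoc]
      one_mul := fun {Z} h x => by
        refine hom_ext_cover U h _ _ fun i {T} a hT => ?_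
        rw [hmulQ h _ _ i a hT, honeQ h i a hT, (P i).one_mul]
      inv_mul := fun {Z} h x => by
        refine hom_ext_cover U h _ _ fun i {T} a hT => ?_
        rw [hmulQ h _ _ i a hT, honeQ h i a hT, hinvQ h _ i a hT, (P i).inv_mul]
      comp_mul := fun {Z Z'} f h h' x y => by
        refine hom_ext_cover U h' _ _ fun i {T} a hT => ?_
        rw [hmulQ h' _ _ i a hT, ← Category.assoc, hmulQ h _ _ i (a ≫ f) hT, Category.assoc,
          Category.assoc] }, ?_⟩
  intro i Z h1 h2 x y
  have h3 := hmulQ h1 x y i (𝟙 Z) h2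
  simpa using h3

end Groth.Agent.Sga7.H301.PGrp
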