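import Groth.Agent.Sga7.H301.Extend

/-!
# From the local rings to the whole base

* `exists_spread_model`: a group of finite presentation over `Spec M⁻¹R` comes from a group over a basic open `D(m)`;
* `fibOn_of_local`: fibre properties over a point of the localization;
* `HasPt`: `A` extends to a neighbourhood of the point `x`; `hasExt_top`: if `A` extends over a nonempty open and near
  all other points, then it extends to the whole of `Spec R`, `R` Noetherian of dimension at most one.
-/

set_option autoImplicit false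
set_option backward.isDefEq.respectTransparency false
universe u

open CategoryTheory CategoryTheory.Limits AlgebraicGeometry MonObj MonoidalCategory CartesianMonoidalCategory Opposite

namespace Groth.Agent.Sga7.H301.PGrp

section Spread

variable {R : Type u} [CommRing R] (M : Submonoid R) (L : Type u) [CommRing L] [Algebra R L]
  [IsLocalization M L]

/-- Spreading out group schemes. -/
theorem exists_spread_model (Q : MorphismProperty Scheme.{u}) (X : Over (Spec (CommRingCat.of L))) [GrpObj X]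
    [LocallyOfFinitePresentation X.hom] [QuasiCompact X.hom] [QuasiSeparated X.hom]
    (hsp : ∀ (G : Over (Spec (CommRingCat.of R))) (q : X.left ⟶ G.left), LocallyOfFinitePresentation G.hom →
      QuasiCompact G.hom → QuasiSeparated G.hom → IsPullback q X.hom G.hom (loc R L) →
        ∃ m ∈ M, PropOn Q (bo m : Set (Spec (CommRingCat.of R))) G) :
    ∃ m ∈ M, ∃ (G : Over (Spec (CommRingCat.of R))) (P : PGrp (bo m : Set (Spec (CommRingCat.of R))) G)
      (q : X.left ⟶ G.left), LocallyOfFinitePresentation G.hom ∧ QuasiCompact G.hom ∧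
        QuasiSeparated G.hom ∧ IsModel P (loc R L) X q ∧
        PropOn Q (bo m : Set (Spec (CommRingCat.of R))) G := by
  obtain ⟨G, q, h1, h2, h3, hpb⟩ := exists_model_sch M L X
  obtain ⟨P', hP'⟩ := exists_pGrp (G := G) (isLoc_loc M L) hpb
  obtain ⟨m1, hm1, P, hP⟩ := exists_spread (M := M) L P'
  obtain ⟨m2, hm2, hQ⟩ := hsp G q h1 h2 h3 hpb
  have hm : m1 * m2 ∈ M := M.mul_mem hm1 hm2
  have d1 : (bo (m1 * m2) : Set (Spec (CommRingCat.of R))) ⊆ bo m1 := bo_le ⟨m2, rfl⟩
  have d2 : (bo (m1 * m2) : Set (Spec (CommRingCat.of R))) ⊆ bo m2 := bo_le ⟨m1, mul_comm _ _⟩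
  have hag : Agree (P.res d1) P' := fun h4 h5 x y => hP h5 _ x y
  exact ⟨m1 * m2, hm, G, P.res d1, q, h1, h2, h3,
    hP'.of_agree hag (fun x => range_loc_le (M := M) L _ hm ⟨x, rfl⟩), hQ.mono d2⟩

variable {L} in
include M in
/-- Fibre properties over a point of the localization. -/
theorem fibOn_of_local {Φ : GProp (Spec (CommRingCat.of R))} {G : Over (Spec (CommRingCat.of R))}
    {U : Set (Spec (CommRingCat.of R))} {P : PGrp U G} {X : Over (Spec (CommRingCat.of L))} [GrpObj X]
    {q : X.left ⟶ G.left} (h : IsModel P (loc R L) X q) (x : Spec (CommRingCat.of R))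
    (hx : x ∈ Set.range (loc R L))
    (hΦ : ∀ {T : Scheme.{u}} (t' : T ⟶ Spec (CommRingCat.of L)) (_ : ∀ y, (t' ≫ loc R L) y = x)
      (X' : Over T) (gX' : GrpObj X') (e : X' ≅ Red.bc t' X), IsMonHom e.hom → Φ (t' ≫ loc R L) X' gX') :
    FibOn @Φ x P := by
  intro T t ht X' gX' q' hq'
  obtain ⟨t', rfl⟩ := (isLoc_loc M L).exists_lift t (fun z => by rw [ht]; exact hx)
  obtain ⟨e, he, -⟩ := hq'.exists_iso (h.bc t')
  exact hΦ t' ht X' gX' e he

end Spread

variable {R : Type u} [CommRing R] {K : Type u} [CommRing K] [Algebra R K]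

/-- `A` extends to a neighbourhood of the point `x`, with the property `Q` and the property `Φ` at `x`. -/
def HasPt (M : Submonoid R) (Q : MorphismProperty Scheme.{u}) (Φ : GProp (Spec (CommRingCat.of R)))
    (A : Over (Spec (CommRingCat.of K))) [GrpObj A] (x : Spec (CommRingCat.of R)) : Prop :=
  ∃ g ∈ M, x ∈ bo g ∧ ∃ (G₁ : Over (Spec (CommRingCat.of R)))
    (P₁ : PGrp (bo g : Set (Spec (CommRingCat.of R))) G₁) (q₁ : A.left ⟶ G₁.left),
    LocallyOfFinitePresentation G₁.hom ∧ QuasiCompact G₁.hom ∧ QuasiSeparated G₁.hom ∧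
      IsModel P₁ (loc R K) A q₁ ∧ PropOn Q (bo g : Set (Spec (CommRingCat.of R))) G₁ ∧ FibOn @Φ x P₁

variable {Q : MorphismProperty Scheme.{u}} {Φ : GProp (Spec (CommRingCat.of R))}
  {A : Over (Spec (CommRingCat.of K))} [GrpObj A] (M : Submonoid R) [IsLocalization M K]

theorem hasExt_top_of_finite [IsNoetherianRing R] [IsZariskiLocalAtTarget Q]
    (hQ1 : Q ≤ @LocallyOfFinitePresentation) (hQ2 : Q ≤ @QuasiCompact) (hQ3 : Q ≤ @QuasiSeparated)
    (hfin : ∀ (a : R) (_ : a ∈ M) (x : Spec (CommRingCat.of R)), ∃ h ∈ M, x ∈ bo h ∧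
      (bo h : Set (Spec (CommRingCat.of R))) ⊆ (bo a : Set _) ∪ {x})
    (b : R) (hb : b ∈ M) (hbf : ((bo b : Set (Spec (CommRingCat.of R)))ᶜ).Finite)
    (h0 : HasExt Q @Φ A (bo b)) (hloc : ∀ x ∉ bo b, HasPt M Q @Φ A x) : HasExt Q @Φ A ⊤ := by
  -- induction on the number of missing points
  have key : ∀ (n : ℕ) (U : (Spec (CommRingCat.of R)).Opens), bo b ≤ U → HasExt Q @Φ A U →
      ((U : Set (Spec (CommRingCat.of R)))ᶜ).ncard ≤ n → HasExt Q @Φ A ⊤ := by
    intro n
    induction n with
    | zero =>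
      intro U hbU hU hn
      have hUf : ((U : Set (Spec (CommRingCat.of R)))ᶜ).Finite :=
        hbf.subset (Set.compl_subset_compl.mpr hbU)
      have h1 : ((U : Set (Spec (CommRingCat.of R)))ᶜ) = ∅ := by
        rw [← Set.ncard_eq_zero hUf]
        omega
      have h2 : U = ⊤ := by
        apply TopologicalSpace.Opens.ext
        rw [TopologicalSpace.Opens.coe_top]
        exact Set.compl_empty_iff.mp h1
      rwa [h2] at hU
    | succ n ih =>
      intro U hbU hU hn
      by_cases hUt : U = ⊤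
      · rwa [hUt] at hU
      · obtain ⟨x, hx⟩ : ∃ x, x ∉ U := by
          by_contra hcon
          push Not at hcon
          exact hUt (TopologicalSpace.Opens.ext (by
            rw [TopologicalSpace.Opens.coe_top]
            exact Set.eq_univ_of_forall hcon))
        have hUf : ((U : Set (Spec (CommRingCat.of R)))ᶜ).Finite :=
          hbf.subset (Set.compl_subset_compl.mpr hbU)
        obtain ⟨g, hg, hxg, G₁, P₁, q₁, f1, f2, f3, h₁, hQ₁, hΦ₁⟩ := hloc x (fun h => hx (hbU h))
        obtain ⟨V, hUV, hxV, hV⟩ := HasExt.step M hQ1 hQ2 hQ3 hU b hb hbU x hx g hg hxg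
          (fun a ha => hfin a ha x) P₁ q₁ h₁ hQ₁ hΦ₁
        refine ih V (hbU.trans hUV) hV ?_
        have h3 : ((V : Set (Spec (CommRingCat.of R)))ᶜ) ⊂ ((U : Set (Spec (CommRingCat.of R)))ᶜ) := by
          rw [Set.ssubset_iff_of_subset (Set.compl_subset_compl.mpr hUV)]
          exact ⟨x, hx, fun h => h hxV⟩
        have h4 := Set.ncard_lt_ncard h3 hUf
        omega
  exact key _ _ le_rfl h0 le_rfl

end Groth.Agent.Sga7.H301.PGrp
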