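import Groth.Agent.Sga7.H301.Opn
import Groth.Agent.CalgA.LimFP
import Groth.Agent.Sga3B.LocLim789

/-!
# Morphisms over a localization of the base

`R` a ring, `M` a submonoid, `L = M⁻¹R`, `Z`, `Y` schemes over `Spec R`, `Z' = Z ×_R L`.

* `exists_extend`: a morphism `Z' ⟶ Y` over `R` comes from a morphism `Z|D(m) ⟶ Y` with `m ∈ M`;
* `exists_eq`: two morphisms `Z ⟶ Y` equal on `Z'` are equal over some `D(m)`, `m ∈ M`.
-/

set_option autoImplicit false
set_option backward.isDefEq.respectTransparency false
set_option backward.defeqAttrib.useBackward true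
universe u

open CategoryTheory CategoryTheory.Limits AlgebraicGeometry MonObj MonoidalCategory CartesianMonoidalCategory Opposite

namespace Groth.Agent.Sga7.H301.PGrp

open Groth.Agent.Sga3B.LocLim789 Groth.Agent.CalgA.LimFP

variable {R : Type u} [CommRing R] (M : Submonoid R) (L : Type u) [CommRing L] [Algebra R L]
  [IsLocalization M L]

/-- `Spec L ⟶ Spec R`. -/
noncomputable abbrev loc (R L : Type u) [CommRing R] [CommRing L] [Algebra R L] :
    Spec (CommRingCat.of L) ⟶ Spec (CommRingCat.of R) :=
  Spec.map (CommRingCat.ofHom (algebraMap R L))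

/-- The basic open subset of the spectrum. -/
noncomputable abbrev bo {R : Type u} [CommRing R] (m : R) : (Spec (CommRingCat.of R)).Opens :=
  PrimeSpectrum.basicOpen m

theorem range_loc_away (m : R) (A : Type u) [CommRing A] [Algebra R A] [IsLocalization.Away m A] :
    Set.range (loc R A) = (bo m : Set (Spec (CommRingCat.of R))) :=
  PrimeSpectrum.localization_away_comap_range A m

instance isOpenImmersion_stage (j : Idx M) : IsOpenImmersion (loc R (Stage j)) :=
  IsOpenImmersion.of_isLocalization (den j)

variable {M}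

/-- The structure of the stages. -/
theorem stage_w {i j : (Idx M)ᵒᵖ} (φ : j ⟶ i) :
    (schDiagram M).map φ ≫ loc R (Stage i.unop) = loc R (Stage j.unop) := by
  have h1 : CommRingCat.ofHom (algebraMap R (Stage i.unop)) ≫
      CommRingCat.ofHom (trans φ.unop.le) = CommRingCat.ofHom (algebraMap R (Stage j.unop)) := by
    ext r
    exact trans_algebraMap (j := i.unop) (k := j.unop) φ.unop.le r
  have h2 := congrArg Spec.map h1
  rw [Spec.map_comp] at h2
  exact h2

theorem cone_w (i : (Idx M)ᵒᵖ) : (schCone (M := M) L).π.app i ≫ loc R (Stage i.unop) = loc R L := by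
  have h1 : CommRingCat.ofHom (algebraMap R (Stage i.unop)) ≫
      CommRingCat.ofHom (toRes L i.unop) = CommRingCat.ofHom (algebraMap R L) := by
    ext r
    exact toRes_algebraMap L i.unop r
  have h2 := congrArg Spec.map h1
  rw [Spec.map_comp] at h2
  exact h2

/-- The initial stage. -/
abbrev st0 (M : Submonoid R) : (Idx M)ᵒᵖ := op ⟨∅⟩

instance : IsIso (loc R (Stage (st0 M).unop)) := isIso_stage_empty

variable {Z Y : Over (Spec (CommRingCat.of R))} {Z' : Over (Spec (CommRingCat.of L))}
  {a : Z'.left ⟶ Z.left}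

/-- `Z` as a scheme over the initial stage. -/
noncomputable abbrev toSt0 (M : Submonoid R) (Z : Over (Spec (CommRingCat.of R))) :
    Z.left ⟶ (schDiagram M).obj (st0 M) :=
  Z.hom ≫ CategoryTheory.inv (loc R (Stage (st0 M).unop))

theorem isPullback_st0 (h : IsPullback a Z'.hom Z.hom (loc R L)) :
    IsPullback a Z'.hom (toSt0 M Z) ((schCone (M := M) L).π.app (st0 M)) := by
  refine IsPullback.of_iso h (Iso.refl _) (Iso.refl _) (Iso.refl _)
    (asIso (loc R (Stage (st0 M).unop))).symm ?_ ?_ ?_ ?_
  · simp
  · simp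
  · simp
  · simp only [Iso.symm_hom, asIso_inv, Iso.refl_hom]
    rw [IsIso.comp_inv_eq, Category.id_comp]
    exact (cone_w L (st0 M)).symm

instance (j : (Idx M)ᵒᵖ) : IsAffine ((schDiagram M).obj j) :=
  inferInstanceAs (IsAffine (Spec (CommRingCat.of (Stage j.unop))))

instance {i j : (Idx M)ᵒᵖ} (φ : i ⟶ j) : IsAffineHom ((schDiagram M).map φ) := inferInstance

variable (Z) in
/-- The restriction of `Z` to a stage, from the open subscheme. -/
theorem exists_toBc (j : Over (st0 M)) :
    ∃ e : (opn Z (bo (den j.left.unop))).left ⟶ (bcDiagram (schDiagram M) (toSt0 M Z)).obj j,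
      e ≫ pullback.fst _ _ = (opnι Z _).left := by
  have h1 : Set.range (opn Z (bo (den j.left.unop))).hom ⊆
      Set.range (loc R (Stage j.left.unop)) := by
    rw [range_loc_away (den j.left.unop)]
    rintro _ ⟨x, rfl⟩
    exact lies_opn Z _ x
  refine ⟨pullback.lift (opnι Z _).left
    (IsOpenImmersion.lift (loc R (Stage j.left.unop)) (opn Z (bo (den j.left.unop))).hom h1) ?_,
    pullback.lift_fst _ _ _⟩
  rw [← cancel_mono (loc R (Stage (st0 M).unop))]
  simp only [Category.assoc, IsIso.inv_hom_id, Category.comp_id]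
  have h2 := stage_w (M := M) j.hom
  have h3 : (schDiagram M).map j.hom ≫ loc R (Stage (st0 M).unop) = loc R (Stage j.left.unop) := h2
  erw [h3]
  rw [IsOpenImmersion.lift_fac, ← opn_hom]

/-- The map from `Z'` to the restriction of `Z` over an open containing the localization. -/
theorem lies_map_loc (m : R) (hm : m ∈ M) (Z' : Over (Spec (CommRingCat.of L))) :
    Lies (bo m : Set (Spec (CommRingCat.of R))) ((Over.map (loc R L)).obj Z') := by
  refine lies_map (fun x => ?_) Z'
  change m ∉ ((loc R L) x : PrimeSpectrum R).asIdeal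
  intro h
  have h1 : algebraMap R L m ∈ (x : PrimeSpectrum L).asIdeal := h
  exact (x : PrimeSpectrum L).2.ne_top (Ideal.eq_top_of_isUnit_mem _ h1 (IsLocalization.map_units L ⟨m, hm⟩))

/-- A morphism from the localization to a scheme locally of finite presentation extends to a basic open. -/
theorem exists_extend [QuasiCompact Z.hom] [QuasiSeparated Z.hom] [LocallyOfFinitePresentation Y.hom]
    (h : IsPullback a Z'.hom Z.hom (loc R L)) (φ' : (Over.map (loc R L)).obj Z' ⟶ Y) :
    ∃ (m : R) (hm : m ∈ M) (φ : opn Z (bo m) ⟶ Y),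
      opnLift (lies_map_loc L m hm Z') (toS h (𝟙 Z')) ≫ φ = φ' := by
  let D := schDiagram M
  let c := schCone (M := M) L
  have hc : IsLimit c := isLimitSchCone (M := M) L
  have h₀ := isPullback_st0 (M := M) L h
  have hqc : QuasiCompact (toSt0 M Z) := by dsimp only [toSt0]; infer_instance
  have hqs : QuasiSeparated (toSt0 M Z) := by dsimp only [toSt0]; infer_instance
  have h1 : ∀ {j k : Over (st0 M)} (a : j ⟶ k), IsAffineHom ((bcDiagram D (toSt0 M Z)).map a) :=
    fun a => isAffineHom_bcDiagram_map a
  have h2 : ∀ j : Over (st0 M), CompactSpace ((bcDiagram D (toSt0 M Z)).obj j) :=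
    fun j => compactSpace_bcDiagram_obj j
  have h3 : ∀ j : Over (st0 M), QuasiSeparatedSpace ((bcDiagram D (toSt0 M Z)).obj j) :=
    fun j => quasiSeparatedSpace_bcDiagram_obj j
  let t : bcDiagram D (toSt0 M Z) ⟶ (Functor.const (Over (st0 M))).obj (Spec (CommRingCat.of R)) :=
    { app := fun j => pullback.fst _ _ ≫ Z.hom
      naturality := fun j k a => by simp }
  obtain ⟨j, g, hg1, hg2⟩ := Scheme.exists_π_app_comp_eq_of_locallyOfFinitePresentation
    (bcDiagram D (toSt0 M Z)) t Y.hom (bcCone h₀) (isLimitBcCone hc h₀) φ'.left (by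
      ext j
      simp only [NatTrans.comp_app, bcCone_π_app, Functor.const_obj_obj, Functor.const_map_app, t]
      rw [pullback.lift_fst_assoc, Over.w φ', h.w]
      rfl)
  obtain ⟨e, he⟩ := exists_toBc (M := M) Z j
  refine ⟨den j.left.unop, den_mem _, Over.homMk (e ≫ g) ?_, ?_⟩
  · rw [Category.assoc, hg2]
    change e ≫ pullback.fst _ _ ≫ Z.hom = _
    rw [reassoc_of% he, ← opn_hom]
  · ext1
    rw [← hg1]
    change (opnLift _ _).left ≫ e ≫ g = _
    rw [← Category.assoc]
    congr 1
    apply pullback.hom_ext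
    · rw [Category.assoc, he]
      have h4 := congrArg CommaMorphism.left
        (opnLift_ι (lies_map_loc L (den j.left.unop) (den_mem _) Z') (toS h (𝟙 Z')))
      have h5 : (opnLift (lies_map_loc L (den j.left.unop) (den_mem _) Z') (toS h (𝟙 Z'))).left ≫
        (opnι Z _).left = a := h4.trans (Category.id_comp a)
      rw [h5]
      exact (pullback.lift_fst _ _ _).symm
    · rw [← cancel_mono (loc R (Stage j.left.unop))]
      have h6 : D.map j.hom ≫ loc R (Stage (st0 M).unop) = loc R (Stage j.left.unop) :=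
        stage_w (M := M) j.hom
      have h7 : ∀ {W : Scheme.{u}} (w : W ⟶ (bcDiagram D (toSt0 M Z)).obj j),
          (w ≫ pullback.snd _ _) ≫ loc R (Stage j.left.unop) = (w ≫ pullback.fst _ _) ≫ Z.hom := by
        intro W w
        rw [← h6]
        have h8 := pullback.condition (f := toSt0 M Z) (g := D.map j.hom)
        have h9 : pullback.snd (toSt0 M Z) (D.map j.hom) ≫ D.map j.hom ≫
            loc R (Stage (st0 M).unop) = pullback.fst (toSt0 M Z) (D.map j.hom) ≫ Z.hom := by
          rw [← Category.assoc, ← h8, Category.assoc]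
          simp
        rw [Category.assoc, Category.assoc]
        exact congrArg (w ≫ ·) h9
      rw [h7, h7]
      congr 1
      rw [Category.assoc, he]
      have h4 := congrArg CommaMorphism.left
        (opnLift_ι (lies_map_loc L (den j.left.unop) (den_mem _) Z') (toS h (𝟙 Z')))
      have h5 : (opnLift (lies_map_loc L (den j.left.unop) (den_mem _) Z') (toS h (𝟙 Z'))).left ≫
        (opnι Z _).left = a := h4.trans (Category.id_comp a)
      rw [h5]
      exact (pullback.lift_fst _ _ _).symm

/-- Two morphisms which agree over the localization agree over a basic open. -/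
theorem exists_eq [QuasiCompact Z.hom] [LocallyOfFiniteType Y.hom]
    (h : IsPullback a Z'.hom Z.hom (loc R L)) (φ ψ : Z ⟶ Y) (e : toS h (𝟙 Z') ≫ φ = toS h (𝟙 Z') ≫ ψ) :
    ∃ m ∈ M, ∀ (T : Over (Spec (CommRingCat.of R))) (_ : Lies (bo m : Set (Spec (CommRingCat.of R))) T)
      (b : T ⟶ Z), b ≫ φ = b ≫ ψ := by
  let D := schDiagram M
  let c := schCone (M := M) L
  have hc : IsLimit c := isLimitSchCone (M := M) L
  have h₀ := isPullback_st0 (M := M) L h
  have hqc : QuasiCompact (toSt0 M Z) := by dsimp only [toSt0]; infer_instance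
  have h1 : ∀ {j k : Over (st0 M)} (a : j ⟶ k), IsAffineHom ((bcDiagram D (toSt0 M Z)).map a) :=
    fun a => isAffineHom_bcDiagram_map a
  have h2 : ∀ j : Over (st0 M), CompactSpace ((bcDiagram D (toSt0 M Z)).obj j) :=
    fun j => compactSpace_bcDiagram_obj j
  let t : bcDiagram D (toSt0 M Z) ⟶ (Functor.const (Over (st0 M))).obj (Spec (CommRingCat.of R)) :=
    { app := fun j => pullback.fst _ _ ≫ Z.hom
      naturality := fun j k a => by simp }
  have e' : a ≫ φ.left = a ≫ ψ.left := by
    have := congrArg CommaMorphism.left e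
    simpa using this
  obtain ⟨j, b, hj⟩ := Scheme.exists_hom_comp_eq_comp_of_locallyOfFiniteType
    (bcDiagram D (toSt0 M Z)) t Y.hom (bcCone h₀) (isLimitBcCone hc h₀) (i := Over.mk (𝟙 (st0 M)))
    (pullback.fst _ _ ≫ φ.left) (pullback.fst _ _ ≫ ψ.left) (by simp [t]) (by simp [t])
    (by simp [e'])
  have hj' : pullback.fst (toSt0 M Z) (D.map j.hom) ≫ φ.left =
      pullback.fst (toSt0 M Z) (D.map j.hom) ≫ ψ.left := by
    simpa using hj
  refine ⟨den j.left.unop, den_mem _, ?_⟩
  intro T hT b'
  obtain ⟨e, he⟩ := exists_toBc (M := M) Z j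
  have h3 : opnι Z (bo (den j.left.unop)) ≫ φ = opnι Z (bo (den j.left.unop)) ≫ ψ := by
    ext1
    rw [Over.comp_left, Over.comp_left, ← he, Category.assoc, Category.assoc]
    exact congrArg (e ≫ ·) hj'
  rw [← opnLift_ι hT b', Category.assoc, Category.assoc, h3]

end Groth.Agent.Sga7.H301.PGrp
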