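import Groth.Agent.Sga7.H301.FibSS
import Groth.Agent.Sga7.H301.FibGood
import Mathlib.AlgebraicGeometry.Group.Smooth

/-!
# Semistable and good reduction of abelian varieties over Dedekind domains

`R` a Noetherian domain of dimension at most one with fraction field `K`, `A` an abelian variety over `K`.

* `hasSemistableReduction_of_local`: `A` has semistable reduction over `R` if it has semistable reduction over the local
  rings of `R` at the maximal ideals;
* `hasGoodReduction_of_local`: the same for good reduction;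
* `exists_hasGoodReduction_away`: `A` has good reduction over `D(f)` for some nonzero `f`.
-/

set_option autoImplicit false
set_option backward.isDefEq.respectTransparency false
universe u

open CategoryTheory CategoryTheory.Limits AlgebraicGeometry MonObj MonoidalCategory CartesianMonoidalCategory Opposite

namespace Groth.Agent.Sga7.H301.PGrp

section PropOn

variable {S : Scheme.{u}} {U : Set S} {G : Over S}

theorem PropOn.inf {P Q : MorphismProperty Scheme.{u}} (h : PropOn P U G) (h' : PropOn Q U G) :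
    PropOn (P ⊓ Q) U G := fun t q f ht hf => ⟨h t q f ht hf, h' t q f ht hf⟩

theorem propOn_of_prop {P : MorphismProperty Scheme.{u}} [P.IsStableUnderBaseChange] (h : P G.hom) :
    PropOn P U G := fun _ _ _ _ hf => P.of_isPullback hf h

theorem PropOn.le {P Q : MorphismProperty Scheme.{u}} (h : PropOn P U G) (hPQ : P ≤ Q) :
    PropOn Q U G := fun t q f ht hf => hPQ _ (h t q f ht hf)

end PropOn

section Top

variable {R : Type u} [CommRing R] {K : Type u} [CommRing K] [Algebra R K]
  {Q : MorphismProperty Scheme.{u}} {Φ : GProp (Spec (CommRingCat.of R))}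
  {A : Over (Spec (CommRingCat.of K))} [GrpObj A]

/-- Extensions over the whole base. -/
theorem exists_of_hasExt_top (h : HasExt Q @Φ A ⊤) :
    ∃ (G : Over (Spec (CommRingCat.of R))) (_ : GrpObj G) (e : Red.bc (loc R K) G ≅ A),
      IsMonHom e.hom ∧ Q G.hom ∧ ∀ s, FibOn @Φ s (ofGrpObj G Set.univ) := by
  obtain ⟨G, P, q, hG, hmod, hQ, hΦ⟩ := h
  have hu : (Set.univ : Set (Spec (CommRingCat.of R))) ⊆
    ((⊤ : (Spec (CommRingCat.of R)).Opens) : Set (Spec (CommRingCat.of R))) := fun _ _ => trivial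
  obtain ⟨gG, hP⟩ := exists_grpObj_univ (P.res hu)
  have hmod' := hmod.res hu (fun _ => Set.mem_univ _)
  rw [hP] at hmod'
  obtain ⟨e, he, -⟩ := (isModel_bc G Set.univ (loc R K) (fun _ => Set.mem_univ _)).exists_iso hmod'
  refine ⟨G, gG, e, he, hQ (𝟙 _) (𝟙 _) G.hom (fun _ => trivial) (IsPullback.of_horiz_isIso ⟨by simp⟩), ?_⟩
  intro s
  rw [← hP]
  exact FibOn.res (hΦ s trivial) hu

end Top

variable {R : Type u} [CommRing R] [IsDomain R] {K : Type u} [Field K] [Algebra R K] [IsFractionRing R K]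
  {A : Over (Spec (CommRingCat.of K))} [GrpObj A]

omit [IsDomain R] [IsFractionRing R K] in
theorem loc_comp_loc (S : Type u) [CommRing S] [Algebra R S] [Algebra S K] [IsScalarTower R S K] :
    loc S K ≫ loc R S = loc R K := by
  rw [loc, loc, loc, ← Spec.map_comp, ← CommRingCat.ofHom_comp, ← IsScalarTower.algebraMap_eq]

omit [IsFractionRing R K] in
/-- Extension to a neighbourhood of a point. -/
theorem hasPt_of_local {Q : MorphismProperty Scheme.{u}} {Φ : GProp (Spec (CommRingCat.of R))}
    (x : Spec (CommRingCat.of R)) (S : Type u) [CommRing S] [Algebra R S]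
    [IsLocalization.AtPrime S (x : PrimeSpectrum R).asIdeal] [Algebra S K] [IsScalarTower R S K]
    (X : Over (Spec (CommRingCat.of S))) [GrpObj X] [LocallyOfFinitePresentation X.hom]
    [QuasiCompact X.hom] [QuasiSeparated X.hom] (e : Red.bc (loc S K) X ≅ A) [IsMonHom e.hom]
    (hsp : ∀ (G : Over (Spec (CommRingCat.of R))) (q : X.left ⟶ G.left), LocallyOfFinitePresentation G.hom →
      QuasiCompact G.hom → QuasiSeparated G.hom → IsPullback q X.hom G.hom (loc R S) →
        ∃ m ∈ (x : PrimeSpectrum R).asIdeal.primeCompl,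
          PropOn Q (bo m : Set (Spec (CommRingCat.of R))) G)
    (hΦ : ∀ {T : Scheme.{u}} (t' : T ⟶ Spec (CommRingCat.of S)) (X' : Over T) (gX' : GrpObj X')
      (e : X' ≅ Red.bc t' X), IsMonHom e.hom → Φ (t' ≫ loc R S) X' gX') :
    HasPt (nonZeroDivisors R) Q @Φ A x := by
  obtain ⟨m, hm, G, P, q, h1, h2, h3, hmod, hQ⟩ :=
    exists_spread_model (x : PrimeSpectrum R).asIdeal.primeCompl S Q X hsp
  have hm0 : m ≠ 0 := by
    rintro rfl
    exact hm (Ideal.zero_mem _)
  have hmod2 := hmod.bc (loc S K)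
  rw [loc_comp_loc] at hmod2
  have he : IsMonHom e.symm.hom := inferInstanceAs (IsMonHom e.inv)
  refine ⟨m, mem_nonZeroDivisors_of_ne_zero hm0, hm, G, P, _, h1, h2, h3, hmod2.of_iso e.symm, hQ, ?_⟩
  refine fibOn_of_local (x : PrimeSpectrum R).asIdeal.primeCompl hmod x ?_ (fun t' _ X' gX' e he => hΦ t' X' gX' e he)
  have h4 := IsLocalization.AtPrime.comap_maximalIdeal S (x : PrimeSpectrum R).asIdeal
  have h5 : IsLocalRing S := IsLocalization.AtPrime.isLocalRing S (x : PrimeSpectrum R).asIdeal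
  exact ⟨IsLocalRing.closedPoint S, PrimeSpectrum.ext h4⟩

/-- Extension to a nonempty open. -/
theorem hasExt_base {Q : MorphismProperty Scheme.{u}} {Φ : GProp (Spec (CommRingCat.of R))}
    (Q' : MorphismProperty Scheme.{u}) [LocallyOfFinitePresentation A.hom]
    [QuasiCompact A.hom] [QuasiSeparated A.hom]
    (hsp : ∀ (G : Over (Spec (CommRingCat.of R))) (q : A.left ⟶ G.left), LocallyOfFinitePresentation G.hom →
      QuasiCompact G.hom → QuasiSeparated G.hom → IsPullback q A.hom G.hom (loc R K) →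
        ∃ m ∈ nonZeroDivisors R, PropOn (Q ⊓ Q') (bo m : Set (Spec (CommRingCat.of R))) G)
    (hΦ : ∀ (U : Set (Spec (CommRingCat.of R))) (G : Over (Spec (CommRingCat.of R))) (P : PGrp U G),
      PropOn Q' U G → ∀ s ∈ U, FibOn @Φ s P) :
    ∃ b ∈ nonZeroDivisors R, HasExt Q @Φ A (bo b) := by
  obtain ⟨m, hm, G, P, q, -, -, -, hmod, hQ⟩ := exists_spread_model (nonZeroDivisors R) K (Q ⊓ Q') A hsp
  refine ⟨m, hm, ?_⟩
  exact HasExt.of_model P le_rfl q hmod hmod.lies (hQ.le inf_le_left)
    (fun s hs => hΦ _ G P (hQ.le inf_le_right) s hs)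

/-- **From the local rings to the whole base.** -/
theorem hasExt_top [IsNoetherianRing R] [Ring.DimensionLEOne R] {Q : MorphismProperty Scheme.{u}}
    {Φ : GProp (Spec (CommRingCat.of R))} [IsZariskiLocalAtTarget Q]
    (hQ1 : Q ≤ @LocallyOfFinitePresentation) (hQ2 : Q ≤ @QuasiCompact) (hQ3 : Q ≤ @QuasiSeparated)
    (h0 : ∃ b ∈ nonZeroDivisors R, HasExt Q @Φ A (bo b))
    (hloc : ∀ x : Spec (CommRingCat.of R), (x : PrimeSpectrum R).asIdeal.IsMaximal →
      (x : PrimeSpectrum R).asIdeal ≠ ⊥ → HasPt (nonZeroDivisors R) Q @Φ A x) : HasExt Q @Φ A ⊤ := by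
  obtain ⟨b, hb, hext⟩ := h0
  have hb0 : b ≠ 0 := nonZeroDivisors.ne_zero hb
  exact hasExt_top_of_finite (nonZeroDivisors R) hQ1 hQ2 hQ3 (fun a ha x => exists_bo_subset a ha x) b hb
    (finite_compl_bo hb0) hext (fun x hx => hloc x (isMaximal_of_notMem_bo hb0 hx) (ne_bot_of_notMem_bo hb0 hx))

end Groth.Agent.Sga7.H301.PGrp
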