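import Groth.Agent.Sga7.H301.Ded
import Groth.Agent.Sga7.H737.RankZeroBC
import Groth.Agent.Sga3B.GaPts

/-!
# Groups without additive subgroups

* `NoGa X`: the group `X` over `T` has no closed subgroup isomorphic to the additive group;
* `noGa_of_universallyClosed`: true for proper groups over algebraically closed fields;
* `NoGa.of_bc`: descends along base change.
-/

set_option autoImplicit false
set_option backward.isDefEq.respectTransparency false
universe u

open CategoryTheory CategoryTheory.Limits AlgebraicGeometry MonObj MonoidalCategory CartesianMonoidalCategory Opposite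

namespace Groth.Agent.Sga7.H301.PGrp

open Groth.Agent.Sga3B Groth.Agent.Sga3B.GaPts Groth.Agent.Sga3B.RedIso Groth.Agent.Sga3B.Parab.GeomFib147

section Ga

/-- The additive group over an algebraically closed field is not universally closed. -/
theorem false_of_universallyClosed_ga (k : Type u) [Field k] [IsAlgClosed k]
    (h : UniversallyClosed (Red.Ga (Spec (CommRingCat.of k))).hom) : False := by
  let S : Scheme.{u} := Spec (CommRingCat.of k)
  have h1 : (Red.Ga S).hom.appTop.hom.IsIntegral := isIntegral_appTop_of_universallyClosed _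
  obtain ⟨p, hp, hp0⟩ := h1 (Red.gaFn (𝟙 (Red.Ga S)))
  let e : Γ(S, ⊤) ≃+* k := (Scheme.ΓSpecIso (CommRingCat.of k)).commRingCatIsoToRingEquiv
  have hdom : IsDomain Γ(S, ⊤) := e.toMulEquiv.isDomain _
  have hinf : Infinite Γ(S, ⊤) := by
    have : Infinite k := IsAlgClosed.instInfinite
    exact Infinite.of_injective e.symm e.symm.injective
  have h2 : ∀ s : Γ(S, ⊤), p.IsRoot s := by
    intro s
    let x : 𝟙_ (Over S) ⟶ Red.Ga S := gaPt (𝟙_ (Over S)) s
    have hx : x.left.appTop.hom (Red.gaFn (𝟙 (Red.Ga S))) = s := by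
      have h3 := gaFn_comp x (𝟙 (Red.Ga S))
      rw [Category.comp_id, gaFn_gaPt] at h3
      exact h3.symm
    have hw : x.left ≫ (Red.Ga S).hom = 𝟙 S := Over.w x
    have hc : x.left.appTop.hom.comp (Red.Ga S).hom.appTop.hom = RingHom.id _ := by
      have h4 : (x.left ≫ (Red.Ga S).hom).appTop = (Red.Ga S).hom.appTop ≫ x.left.appTop :=
        Scheme.Hom.comp_appTop _ _
      have h5 : (x.left ≫ (Red.Ga S).hom).appTop = 𝟙 _ := by rw [hw]; exact Scheme.Hom.id_appTop
      rw [h4] at h5
      exact congrArg CommRingCat.Hom.hom h5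
    have h6 := congrArg x.left.appTop.hom hp0
    rw [Polynomial.hom_eval₂, hc, map_zero, hx] at h6
    exact h6
  have h7 : p = 0 := Polynomial.eq_zero_of_infinite_isRoot p (by
    have : {x | p.IsRoot x} = Set.univ := Set.eq_univ_of_forall h2
    rw [this]
    exact Set.infinite_univ)
  exact hp.ne_zero h7

end Ga

/-- The group `X` has no closed subgroup isomorphic to the additive group. -/
def NoGa {T : Scheme.{u}} (X : Over T) (gX : GrpObj X) : Prop :=
  ∀ (j : Red.Ga T ⟶ X), IsMonHom j → IsClosedImmersion j.left → False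

theorem NoGa.of_iso {T : Scheme.{u}} {X X' : Over T} {gX : GrpObj X} {gX' : GrpObj X'} (h : NoGa X gX)
    (e : X' ≅ X) (he : IsMonHom e.hom) : NoGa X' gX' := by
  intro j hj hjc
  refine h (j ≫ e.hom) inferInstance ?_
  have h1 : IsIso e.hom.left := inferInstanceAs (IsIso ((Over.forget _).map e.hom))
  have h2 : IsClosedImmersion (j.left ≫ e.hom.left) := inferInstance
  exact h2

theorem NoGa.of_bc {T T' : Scheme.{u}} (φ : T' ⟶ T) {X : Over T} {gX : GrpObj X}
    (h : NoGa (Red.bc φ X) inferInstance) : NoGa X gX := by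
  intro j hj hjc
  let a : Red.Ga T' ≅ Red.bc φ (Red.Ga T) := und (H737.RankZeroBC.gaBc φ).symm
  have ha : IsMonHom a.hom := inferInstanceAs (IsMonHom (und (H737.RankZeroBC.gaBc φ).symm).hom)
  refine h (a.hom ≫ (Over.pullback φ).map j) inferInstance ?_
  have h1 : IsClosedImmersion ((Over.pullback φ).map j).left :=
    MorphismProperty.of_isPullback (H737.FlatMonoBC.isPullback_map φ j).flip hjc
  have ha' : IsIso a.hom.left := inferInstanceAs (IsIso ((Over.forget _).map a.hom))
  have h7 : IsClosedImmersion (a.hom.left ≫ ((Over.pullback φ).map j).left) := inferInstance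
  exact h7

theorem noGa_of_universallyClosed {k : Type u} [Field k] [IsAlgClosed k] {T : Scheme.{u}}
    (φ : Spec (CommRingCat.of k) ⟶ T) {X : Over T} {gX : GrpObj X} (h : UniversallyClosed X.hom) :
    NoGa X gX := by
  refine NoGa.of_bc φ ?_
  intro j hj hjc
  have h1 : UniversallyClosed (Red.bc φ X).hom := MorphismProperty.pullback_snd _ _ h
  refine false_of_universallyClosed_ga k ?_
  have h2 : j.left ≫ (Red.bc φ X).hom = (Red.Ga (Spec (CommRingCat.of k))).hom := Over.w j
  rw [← h2]
  infer_instance

/-- The property of groups corresponding to `FibresUnipotentRankZero`. -/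
def PhiSS (S : Scheme.{u}) : GProp S := fun {T} t X gX =>
  ∀ (s : S) (φ : Spec (CommRingCat.of (AlgebraicClosure (S.residueField s))) ⟶ T),
    φ ≫ t = Red.geomPt s → NoGa X gX

end Groth.Agent.Sga7.H301.PGrp
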