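import Groth.Agent.Sga7.H301.PModel

/-!
# Open subschemes over an open of the base; points over an open

* `opn Z U`: the part of `Z : Over S` over the open `U` of `S`; `opnι`, `opnLift`.
* `BijOn U i`: `i : G ⟶ H` induces bijections on points over `U`.
-/

set_option autoImplicit false
set_option backward.isDefEq.respectTransparency false
universe u

open CategoryTheory CategoryTheory.Limits AlgebraicGeometry MonObj MonoidalCategory CartesianMonoidalCategory Opposite

namespace Groth.Agent.Sga7.H301.PGrp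

variable {S : Scheme.{u}}

/-- The part of `Z` over the open `U` of the base. -/
noncomputable def opn (Z : Over S) (U : S.Opens) : Over S := Over.mk ((Z.hom ⁻¹ᵁ U).ι ≫ Z.hom)

/-- The inclusion. -/
noncomputable def opnι (Z : Over S) (U : S.Opens) : opn Z U ⟶ Z := Over.homMk (Z.hom ⁻¹ᵁ U).ι rfl

instance (Z : Over S) (U : S.Opens) : IsOpenImmersion (opnι Z U).left :=
  inferInstanceAs (IsOpenImmersion (Z.hom ⁻¹ᵁ U).ι)

instance (Z : Over S) (U : S.Opens) : Mono (opnι Z U) :=
  (Over.forget S).mono_of_mono_map (inferInstanceAs (Mono (Z.hom ⁻¹ᵁ U).ι))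

theorem range_opnι (Z : Over S) (U : S.Opens) :
    Set.range (opnι Z U).left = Z.hom ⁻¹' (U : Set S) := by
  exact Scheme.Opens.range_ι _

theorem lies_opn (Z : Over S) (U : S.Opens) : Lies (U : Set S) (opn Z U) := by
  intro z
  have h1 : (opn Z U).hom z = Z.hom ((opnι Z U).left z) := rfl
  rw [h1]
  have h2 : (opnι Z U).left z ∈ Set.range (opnι Z U).left := ⟨z, rfl⟩
  rw [range_opnι] at h2
  exact h2

/-- Lifting morphisms from schemes over `U`. -/
noncomputable def opnLift {Z : Over S} {U : S.Opens} {T : Over S} (hT : Lies (U : Set S) T) (b : T ⟶ Z) :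
    T ⟶ opn Z U :=
  Over.homMk (IsOpenImmersion.lift (opnι Z U).left b.left (by
    rw [range_opnι]
    rintro _ ⟨x, rfl⟩
    change Z.hom (b.left x) ∈ U
    rw [← Scheme.Hom.comp_apply, Over.w b]
    exact hT x)) (by
    have h1 : (opn Z U).hom = (opnι Z U).left ≫ Z.hom := (Over.w (opnι Z U)).symm
    rw [h1, ← Category.assoc, IsOpenImmersion.lift_fac, Over.w b])

@[reassoc (attr := simp)]
theorem opnLift_ι {Z : Over S} {U : S.Opens} {T : Over S} (hT : Lies (U : Set S) T) (b : T ⟶ Z) :
    opnLift hT b ≫ opnι Z U = b := by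
  ext1
  exact IsOpenImmersion.lift_fac _ _ _

theorem comp_opnLift {Z : Over S} {U : S.Opens} {T T' : Over S} (hT : Lies (U : Set S) T)
    (hT' : Lies (U : Set S) T') (b : T ⟶ Z) (f : T' ⟶ T) :
    f ≫ opnLift hT b = opnLift hT' (f ≫ b) := by
  rw [← cancel_mono (opnι Z U)]
  simp

theorem opn_hom (Z : Over S) (U : S.Opens) : (opn Z U).hom = (opnι Z U).left ≫ Z.hom :=
  (Over.w (opnι Z U)).symm

/-- The square of `opn`. -/
theorem isPullback_opnι (Z : Over S) (U : S.Opens) (f : (opn Z U).left ⟶ U)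
    (hf : f ≫ U.ι = (opn Z U).hom) : IsPullback (opnι Z U).left f Z.hom U.ι := by
  refine (IsOpenImmersion.isPullback _ _ _ _ ?_ ?_).flip
  · rw [hf, opn_hom]
  · ext x
    have h1 := Set.ext_iff.mp (range_opnι Z U) x
    simpa using h1.symm

instance (Z : Over S) (U : S.Opens) [LocallyOfFinitePresentation Z.hom] :
    LocallyOfFinitePresentation (opn Z U).hom := by
  rw [opn_hom]
  infer_instance

instance (Z : Over S) (U : S.Opens) [QuasiSeparated Z.hom] : QuasiSeparated (opn Z U).hom := by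
  rw [opn_hom]
  infer_instance

instance (Z : Over S) (U : S.Opens) [IsSeparated Z.hom] : IsSeparated (opn Z U).hom := by
  rw [opn_hom]
  infer_instance

theorem exists_toOpens (Z : Over S) (U : S.Opens) (hZ : Lies (U : Set S) Z) :
    ∃ f : Z.left ⟶ U, f ≫ U.ι = Z.hom :=
  ⟨IsOpenImmersion.lift U.ι Z.hom (by
    rw [Scheme.Opens.range_ι]
    rintro _ ⟨x, rfl⟩
    exact hZ x), IsOpenImmersion.lift_fac _ _ _⟩

theorem quasiCompact_opn (Z : Over S) (U : S.Opens) [QuasiCompact U.ι] [QuasiCompact Z.hom] :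
    QuasiCompact (opn Z U).hom := by
  obtain ⟨f, hf⟩ := exists_toOpens (opn Z U) U (lies_opn Z U)
  have h1 := isPullback_opnι Z U f hf
  have h2 : QuasiCompact (opnι Z U).left := MorphismProperty.of_isPullback h1.flip inferInstance
  rw [opn_hom]
  infer_instance

section BijOn

variable {U V : Set S} {G H K : Over S}

/-- `i : G ⟶ H` induces bijections on points over `U`. -/
def BijOn (U : Set S) (i : G ⟶ H) : Prop :=
  ∀ {Z : Over S}, Lies U Z → Function.Bijective (fun x : Z ⟶ G => x ≫ i)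

theorem BijOn.mono {i : G ⟶ H} (h : BijOn V i) (hUV : U ⊆ V) : BijOn U i :=
  fun hZ => h (hZ.mono hUV)

theorem BijOn.comp {i : G ⟶ H} {j : H ⟶ K} (hi : BijOn U i) (hj : BijOn U j) : BijOn U (i ≫ j) := by
  intro Z hZ
  have h1 := (hj hZ).comp (hi hZ)
  refine ⟨fun x y hxy => h1.1 ?_, fun y => ?_⟩
  · simpa using hxy
  · obtain ⟨x, hx⟩ := h1.2 y
    exact ⟨x, by simpa using hx⟩

theorem bijOn_opnι (Z : Over S) (U : S.Opens) : BijOn (U : Set S) (opnι Z U) :=
  fun hT => ⟨fun x y hxy => (cancel_mono (opnι Z U)).mp hxy, fun y => ⟨opnLift hT y, opnLift_ι _ _⟩⟩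

/-- Open immersions which are onto over `U`. -/
theorem bijOn_of_isOpenImmersion (i : G ⟶ H) [IsOpenImmersion i.left]
    (h : ∀ y : H.left, H.hom y ∈ U → y ∈ Set.range i.left) : BijOn U i := by
  intro Z hZ
  have hm : Mono i := (Over.forget S).mono_of_mono_map (inferInstanceAs (Mono i.left))
  refine ⟨fun x y hxy => (cancel_mono i).mp hxy, fun y => ?_⟩
  have hr : Set.range y.left ⊆ Set.range i.left := by
    rintro _ ⟨z, rfl⟩
    apply h
    rw [← Scheme.Hom.comp_apply, Over.w y]
    exact hZ z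
  refine ⟨Over.homMk (IsOpenImmersion.lift i.left y.left hr) ?_, ?_⟩
  · rw [← Over.w i, ← Category.assoc, IsOpenImmersion.lift_fac, Over.w y]
  · ext1
    exact IsOpenImmersion.lift_fac _ _ _

/-- Cartesian squares and morphisms which are bijective on points. -/
theorem BijOn.isPullback {i : G ⟶ H} (hi : BijOn U i) {T X : Scheme.{u}} {t : T ⟶ S} {f : X ⟶ T}
    {q : X ⟶ G.left} (ht : ∀ x, t x ∈ U) (h : IsPullback q f G.hom t) :
    IsPullback (q ≫ i.left) f H.hom t := by
  refine ⟨⟨by rw [Category.assoc, Over.w i, h.w]⟩, ⟨PullbackCone.IsLimit.mk _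
    (fun s => h.lift ((hi (Z := Over.mk (s.snd ≫ t)) ?_).2 (Over.homMk s.fst s.condition)).choose.left s.snd ?_)
    ?_ ?_ ?_⟩⟩
  · intro z
    change (s.snd ≫ t) z ∈ U
    rw [Scheme.Hom.comp_apply]
    exact ht _
  · exact Over.w _
  · intro s
    rw [← Category.assoc, h.lift_fst]
    have hz : Lies U (Over.mk (s.snd ≫ t)) := by
      intro z
      change (s.snd ≫ t) z ∈ U
      rw [Scheme.Hom.comp_apply]
      exact ht _
    have h1 := ((hi hz).2 (Over.homMk s.fst s.condition)).choose_spec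
    exact congrArg CommaMorphism.left h1
  · intro s
    exact h.lift_snd _ _ _
  · intro s m hm1 hm2
    apply h.hom_ext
    · rw [h.lift_fst]
      have hz : Lies U (Over.mk (s.snd ≫ t)) := by
        intro z
        change (s.snd ≫ t) z ∈ U
        rw [Scheme.Hom.comp_apply]
        exact ht _
      have h1 := ((hi hz).2 (Over.homMk s.fst s.condition)).choose_spec
      have h2 : (Over.homMk (m ≫ q) (by
          change (m ≫ q) ≫ G.hom = s.snd ≫ t
          rw [Category.assoc, h.w, ← Category.assoc, hm2]) : Over.mk (s.snd ≫ t) ⟶ G) =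
          ((hi hz).2 (Over.homMk s.fst s.condition)).choose := by
        apply (hi hz).1
        refine Eq.trans ?_ h1.symm
        ext1
        change (m ≫ q) ≫ i.left = s.fst
        rw [Category.assoc]
        exact hm1
      exact congrArg CommaMorphism.left h2
    · rw [h.lift_snd]
      exact hm2

/-- Conversely, a cartesian square over `H` comes from one over `G`. -/
theorem BijOn.exists_isPullback {i : G ⟶ H} (hi : BijOn U i) {T X : Scheme.{u}} {t : T ⟶ S} {f : X ⟶ T}
    {q : X ⟶ H.left} (ht : ∀ x, t x ∈ U) (h : IsPullback q f H.hom t) :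
    ∃ q' : X ⟶ G.left, q' ≫ i.left = q ∧ IsPullback q' f G.hom t := by
  have hz : ∀ {W : Scheme.{u}} (w : W ⟶ T), Lies U (Over.mk (w ≫ t)) := by
    intro W w z
    change (w ≫ t) z ∈ U
    rw [Scheme.Hom.comp_apply]
    exact ht _
  obtain ⟨q₀, hq₀⟩ := (hi (hz f)).2 (Over.homMk q h.w)
  have hq : q₀.left ≫ i.left = q := congrArg CommaMorphism.left hq₀
  have hw : q₀.left ≫ G.hom = f ≫ t := Over.w q₀
  refine ⟨q₀.left, hq, ⟨⟨hw⟩, ⟨PullbackCone.IsLimit.mk _
    (fun s => h.lift (s.fst ≫ i.left) s.snd (by rw [Category.assoc, Over.w i, s.condition])) ?_ ?_ ?_⟩⟩⟩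
  · intro s
    have h1 : (Over.homMk (h.lift (s.fst ≫ i.left) s.snd (by rw [Category.assoc, Over.w i, s.condition]) ≫ q₀.left)
        (by
          change _ = s.snd ≫ t
          rw [Category.assoc, hw, ← Category.assoc, h.lift_snd]) : Over.mk (s.snd ≫ t) ⟶ G) =
        Over.homMk s.fst s.condition := by
      apply (hi (hz s.snd)).1
      ext1
      change (h.lift (s.fst ≫ i.left) s.snd _ ≫ q₀.left) ≫ i.left = s.fst ≫ i.left
      rw [Category.assoc, hq, h.lift_fst]
    exact congrArg CommaMorphism.left h1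
  · intro s
    exact h.lift_snd _ _ _
  · intro s m hm1 hm2
    apply h.hom_ext
    · rw [h.lift_fst, ← hq, ← Category.assoc, hm1]
    · rw [h.lift_snd, hm2]

theorem IsModel.ofBij {P : PGrp U G} {T : Scheme.{u}} {t : T ⟶ S} {X : Over T} [GrpObj X]
    {q : X.left ⟶ G.left} (h : IsModel P t X q) (i : G ⟶ H) (hi : BijOn U i) :
    IsModel (P.ofBij i hi) t X (q ≫ i.left) where
  isPullback := hi.isPullback h.lies h.isPullback
  lies := h.lies
  mul {Z} x y := by
    have key : ∀ x : Z ⟶ X, toS (hi.isPullback h.lies h.isPullback) x = toS h.isPullback x ≫ i := by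
      intro x
      ext1
      simp
    rw [key, key, key, ofBij_mul, h.toS_mul]

theorem IsModel.exists_comapBij {P : PGrp U H} {T : Scheme.{u}} {t : T ⟶ S} {X : Over T} [GrpObj X]
    {q : X.left ⟶ H.left} (h : IsModel P t X q) (i : G ⟶ H) (hi : BijOn U i) :
    ∃ q' : X.left ⟶ G.left, q' ≫ i.left = q ∧ IsModel (P.comapBij i hi) t X q' := by
  obtain ⟨q', hq', h'⟩ := hi.exists_isPullback h.lies h.isPullback
  refine ⟨q', hq', ⟨h', h.lies, ?_⟩⟩
  intro Z x y
  apply (hi (lies_map h.lies Z)).1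
  change toS h' (x * y) ≫ i = (P.comapBij i hi).mul _ _ _ ≫ i
  rw [comapBij_mul]
  have key : ∀ x : Z ⟶ X, toS h' x ≫ i = toS h.isPullback x := by
    intro x
    ext1
    simp [hq']
  rw [key, key, key, h.toS_mul]

end BijOn

end Groth.Agent.Sga7.H301.PGrp
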