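import Groth.Prelude.Def_Red
import Mathlib.Algebra.Group.MinimalAxioms

/-!
# Group structures on the restriction of a scheme to a subset of the base

`S` a scheme, `U` a subset of `S`, `G : Over S`.  A `PGrp U G` is a natural group structure on the sets `Hom_S(Z, G)` for the
`S`-schemes `Z` lying over `U`.

* `PGrp.group`: the group structure; `PGrp.ext_mul`;
* `PGrp.res`: restriction to a smaller subset;
* `IsModel P t q`: for `t : T ⟶ S`, `X : Over T` a group and `q : X.left ⟶ G.left`, the square is cartesian and `q` is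
  compatible with the group laws;
* `PGrp.grpObj`: the group structure on a cartesian square over `t : T ⟶ S` with image in `U`.
-/

set_option autoImplicit false
universe u

open CategoryTheory CategoryTheory.Limits AlgebraicGeometry MonObj CartesianMonoidalCategory Opposite

namespace Groth.Agent.Sga7.H301.PGrp

variable {S : Scheme.{u}}

/-- `Z` lies over the subset `U` of the base. -/
def Lies (U : Set S) (Z : Over S) : Prop := ∀ z : Z.left, Z.hom z ∈ U

theorem Lies.comp {U : Set S} {Z Z' : Over S} (h : Lies U Z) (f : Z' ⟶ Z) : Lies U Z' := by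
  intro z
  have h1 : Z'.hom z = Z.hom (f.left z) := by
    rw [← Scheme.Hom.comp_apply, Over.w f]
  rw [h1]
  exact h _

theorem Lies.mono {U V : Set S} (hUV : U ⊆ V) {Z : Over S} (h : Lies U Z) : Lies V Z :=
  fun z => hUV (h z)

theorem lies_univ (Z : Over S) : Lies (Set.univ : Set S) Z := fun _ => Set.mem_univ _

end Groth.Agent.Sga7.H301.PGrp

namespace Groth.Agent.Sga7.H301

open PGrp

variable {S : Scheme.{u}}

/-- A natural group structure on `Hom_S(Z, G)` for the `S`-schemes `Z` lying over `U`. -/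
structure PGrp (U : Set S) (G : Over S) where
  /-- multiplication -/
  mul : ∀ {Z : Over S}, Lies U Z → (Z ⟶ G) → (Z ⟶ G) → (Z ⟶ G)
  /-- unit -/
  one : ∀ {Z : Over S}, Lies U Z → (Z ⟶ G)
  /-- inverse -/
  inv : ∀ {Z : Over S}, Lies U Z → (Z ⟶ G) → (Z ⟶ G)
  mul_assoc : ∀ {Z : Over S} (h : Lies U Z) (x y z : Z ⟶ G), mul h (mul h x y) z = mul h x (mul h y z)
  one_mul : ∀ {Z : Over S} (h : Lies U Z) (x : Z ⟶ G), mul h (one h) x = x
  inv_mul : ∀ {Z : Over S} (h : Lies U Z) (x : Z ⟶ G), mul h (inv h x) x = one h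
  comp_mul : ∀ {Z Z' : Over S} (f : Z' ⟶ Z) (h : Lies U Z) (h' : Lies U Z') (x y : Z ⟶ G),
    f ≫ mul h x y = mul h' (f ≫ x) (f ≫ y)

namespace PGrp

variable {U V : Set S} {G H : Over S}

/-- The group of points. -/
@[instance_reducible]
def group (P : PGrp U G) {Z : Over S} (h : Lies U Z) : Group (Z ⟶ G) :=
  @Group.ofLeftAxioms _ ⟨P.mul h⟩ ⟨P.inv h⟩ ⟨P.one h⟩ (P.mul_assoc h) (P.one_mul h) (P.inv_mul h)

theorem comp_one (P : PGrp U G) {Z Z' : Over S} (f : Z' ⟶ Z) (h : Lies U Z) (h' : Lies U Z') :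
    f ≫ P.one h = P.one h' := by
  letI := P.group h'
  have h1 : P.mul h' (f ≫ P.one h) (f ≫ P.one h) = f ≫ P.one h := by
    rw [← P.comp_mul f h h', P.one_mul]
  have h2 : (f ≫ P.one h) * (f ≫ P.one h) = (f ≫ P.one h : Z' ⟶ G) := h1
  exact mul_eq_left.mp h2

/-- The homomorphism on points. -/
def pullHom (P : PGrp U G) {Z Z' : Over S} (f : Z' ⟶ Z) (h : Lies U Z) (h' : Lies U Z') :
    letI := P.group h
    letI := P.group h'
    (Z ⟶ G) →* (Z' ⟶ G) :=
  letI := P.group h
  letI := P.group h'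
  { toFun x := f ≫ x
    map_one' := P.comp_one f h h'
    map_mul' x y := P.comp_mul f h h' x y }

theorem comp_inv (P : PGrp U G) {Z Z' : Over S} (f : Z' ⟶ Z) (h : Lies U Z) (h' : Lies U Z')
    (x : Z ⟶ G) : f ≫ P.inv h x = P.inv h' (f ≫ x) :=
  letI := P.group h
  letI := P.group h'
  map_inv (P.pullHom f h h') x

/-- A partial group structure is determined by its multiplication. -/
theorem ext_mul {P Q : PGrp U G}
    (h : ∀ {Z : Over S} (hZ : Lies U Z) (x y : Z ⟶ G), P.mul hZ x y = Q.mul hZ x y) : P = Q := by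
  have h1 : ∀ {Z : Over S} (hZ : Lies U Z), P.one hZ = Q.one hZ := by
    intro Z hZ
    letI := P.group hZ
    have h2 : (Q.one hZ) * (Q.one hZ) = (Q.one hZ : Z ⟶ G) := by
      change P.mul hZ _ _ = _
      rw [h, Q.one_mul]
    exact (mul_eq_left.mp h2).symm
  have h2 : ∀ {Z : Over S} (hZ : Lies U Z) (x : Z ⟶ G), P.inv hZ x = Q.inv hZ x := by
    intro Z hZ x
    letI := P.group hZ
    have h3 : (Q.inv hZ x) * x = (1 : Z ⟶ G) := by
      change P.mul hZ _ _ = P.one hZ
      rw [h, Q.inv_mul, h1]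
    exact (eq_inv_of_mul_eq_one_left h3).symm
  cases P
  cases Q
  congr 1
  · funext Z hZ x y
    exact h hZ x y
  · funext Z hZ
    exact h1 hZ
  · funext Z hZ x
    exact h2 hZ x

/-- Restriction to a smaller subset. -/
@[simps]
def res (P : PGrp U G) (hVU : V ⊆ U) : PGrp V G where
  mul h x y := P.mul (h.mono hVU) x y
  one h := P.one (h.mono hVU)
  inv h x := P.inv (h.mono hVU) x
  mul_assoc h x y z := P.mul_assoc _ _ _ _
  one_mul h x := P.one_mul _ _
  inv_mul h x := P.inv_mul _ _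
  comp_mul f h h' x y := P.comp_mul _ _ _ _ _

/-- Transport along a morphism inducing bijections on the points over `U`. -/
noncomputable def ofBij (P : PGrp U G) (i : G ⟶ H)
    (hi : ∀ {Z : Over S}, Lies U Z → Function.Bijective (fun x : Z ⟶ G => x ≫ i)) : PGrp U H where
  mul h x y := P.mul h ((Equiv.ofBijective _ (hi h)).symm x) ((Equiv.ofBijective _ (hi h)).symm y) ≫ i
  one h := P.one h ≫ i
  inv h x := P.inv h ((Equiv.ofBijective _ (hi h)).symm x) ≫ i
  mul_assoc h x y z := by
    have h1 : ∀ a : _ ⟶ G, (Equiv.ofBijective _ (hi h)).symm (a ≫ i) = a :=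
      fun a => (Equiv.ofBijective _ (hi h)).symm_apply_apply a
    rw [h1, h1, P.mul_assoc]
  one_mul h x := by
    have h1 : ∀ a : _ ⟶ G, (Equiv.ofBijective _ (hi h)).symm (a ≫ i) = a :=
      fun a => (Equiv.ofBijective _ (hi h)).symm_apply_apply a
    rw [h1, P.one_mul]
    exact (Equiv.ofBijective _ (hi h)).apply_symm_apply x
  inv_mul h x := by
    have h1 : ∀ a : _ ⟶ G, (Equiv.ofBijective _ (hi h)).symm (a ≫ i) = a :=
      fun a => (Equiv.ofBijective _ (hi h)).symm_apply_apply a
    rw [h1, P.inv_mul]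
  comp_mul {Z Z'} f h h' x y := by
    have h2 : ∀ x : Z ⟶ H, f ≫ (Equiv.ofBijective _ (hi h)).symm x =
        (Equiv.ofBijective _ (hi h')).symm (f ≫ x) := by
      intro x
      apply (hi h').1
      change (f ≫ (Equiv.ofBijective _ (hi h)).symm x) ≫ i =
        (Equiv.ofBijective _ (hi h')) ((Equiv.ofBijective _ (hi h')).symm (f ≫ x))
      rw [Equiv.apply_symm_apply, Category.assoc]
      congr 1
      exact (Equiv.ofBijective _ (hi h)).apply_symm_apply x
    rw [← Category.assoc, P.comp_mul f h h', h2, h2]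

theorem ofBij_mul (P : PGrp U G) (i : G ⟶ H)
    (hi : ∀ {Z : Over S}, Lies U Z → Function.Bijective (fun x : Z ⟶ G => x ≫ i)) {Z : Over S}
    (h : Lies U Z) (x y : Z ⟶ G) :
    (P.ofBij i hi).mul h (x ≫ i) (y ≫ i) = P.mul h x y ≫ i := by
  have h1 : ∀ a : Z ⟶ G, (Equiv.ofBijective _ (hi h)).symm (a ≫ i) = a :=
    fun a => (Equiv.ofBijective _ (hi h)).symm_apply_apply a
  change P.mul h ((Equiv.ofBijective _ (hi h)).symm (x ≫ i))
    ((Equiv.ofBijective _ (hi h)).symm (y ≫ i)) ≫ i = _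
  rw [h1, h1]

/-- Pull back along a morphism inducing bijections on the points over `U`. -/
noncomputable def comapBij (P : PGrp U H) (i : G ⟶ H)
    (hi : ∀ {Z : Over S}, Lies U Z → Function.Bijective (fun x : Z ⟶ G => x ≫ i)) : PGrp U G where
  mul h x y := (Equiv.ofBijective _ (hi h)).symm (P.mul h (x ≫ i) (y ≫ i))
  one h := (Equiv.ofBijective _ (hi h)).symm (P.one h)
  inv h x := (Equiv.ofBijective _ (hi h)).symm (P.inv h (x ≫ i))
  mul_assoc h x y z := by
    have h1 : ∀ a : _ ⟶ H, (Equiv.ofBijective _ (hi h)).symm a ≫ i = a :=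
      fun a => (Equiv.ofBijective _ (hi h)).apply_symm_apply a
    rw [h1, h1, P.mul_assoc]
  one_mul h x := by
    have h1 : ∀ a : _ ⟶ H, (Equiv.ofBijective _ (hi h)).symm a ≫ i = a :=
      fun a => (Equiv.ofBijective _ (hi h)).apply_symm_apply a
    rw [h1, P.one_mul]
    exact (Equiv.ofBijective _ (hi h)).symm_apply_apply x
  inv_mul h x := by
    have h1 : ∀ a : _ ⟶ H, (Equiv.ofBijective _ (hi h)).symm a ≫ i = a :=
      fun a => (Equiv.ofBijective _ (hi h)).apply_symm_apply a
    rw [h1, P.inv_mul]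
  comp_mul {Z Z'} f h h' x y := by
    apply (hi h').1
    have h1 : ∀ a : Z ⟶ H, (Equiv.ofBijective _ (hi h)).symm a ≫ i = a :=
      fun a => (Equiv.ofBijective _ (hi h)).apply_symm_apply a
    have h1' : ∀ a : Z' ⟶ H, (Equiv.ofBijective _ (hi h')).symm a ≫ i = a :=
      fun a => (Equiv.ofBijective _ (hi h')).apply_symm_apply a
    change (f ≫ (Equiv.ofBijective _ (hi h)).symm _) ≫ i = (Equiv.ofBijective _ (hi h')).symm _ ≫ i
    rw [Category.assoc, h1, h1', P.comp_mul f h h', Category.assoc, Category.assoc]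

theorem comapBij_mul (P : PGrp U H) (i : G ⟶ H)
    (hi : ∀ {Z : Over S}, Lies U Z → Function.Bijective (fun x : Z ⟶ G => x ≫ i)) {Z : Over S}
    (h : Lies U Z) (x y : Z ⟶ G) :
    (P.comapBij i hi).mul h x y ≫ i = P.mul h (x ≫ i) (y ≫ i) :=
  (Equiv.ofBijective _ (hi h)).apply_symm_apply _

/-- The partial group structure of a group scheme. -/
@[simps]
noncomputable def ofGrpObj (G : Over S) [GrpObj G] (U : Set S) : PGrp U G where
  mul _ x y := x * y
  one _ := 1
  inv _ x := x⁻¹
  mul_assoc _ x y z := _root_.mul_assoc x y z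
  one_mul _ x := _root_.one_mul x
  inv_mul _ x := inv_mul_cancel x
  comp_mul f _ _ x y := MonObj.comp_mul f x y

end PGrp

end Groth.Agent.Sga7.H301
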