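import Groth.Agent.Sga7.H301.PGrp

/-!
# Models of a partial group structure

`P : PGrp U G`, `t : T ⟶ S` with image in `U`, `X : Over T` a group and `q : X.left ⟶ G.left`:
`IsModel P t X q` says that the square is cartesian and that the group law of `X` is the one of `P`.

* `exists_grpObj`: existence of the group law on a cartesian square;
* `IsModel.exists_iso`: uniqueness of models up to a unique isomorphism of groups;
* `isModel_bc`: the base change of a group scheme is a model;
* `IsModel.comp`: models of models;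
* `exists_pGrp`: a group over a localization `t : T ⟶ S` defines a partial group structure.
-/

set_option autoImplicit false
set_option backward.isDefEq.respectTransparency false
universe u

open CategoryTheory CategoryTheory.Limits AlgebraicGeometry MonObj MonoidalCategory CartesianMonoidalCategory Opposite

namespace Groth.Agent.Sga7.H301.PGrp

variable {S : Scheme.{u}} {U V : Set S} {G H : Over S}

section

variable {T : Scheme.{u}} {t : T ⟶ S} {X : Over T} {q : X.left ⟶ G.left}

/-- Points of `X` as points of `G`. -/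
noncomputable def toS (h : IsPullback q X.hom G.hom t) {Z : Over T} (x : Z ⟶ X) : (Over.map t).obj Z ⟶ G :=
  Over.homMk (x.left ≫ q) (by
    rw [Category.assoc, h.w, ← Category.assoc, Over.w x]
    rfl)

@[simp]
theorem toS_left (h : IsPullback q X.hom G.hom t) {Z : Over T} (x : Z ⟶ X) :
    (toS h x).left = x.left ≫ q := rfl

/-- Points of `G` as points of `X`. -/
noncomputable def ofS (h : IsPullback q X.hom G.hom t) {Z : Over T} (x : (Over.map t).obj Z ⟶ G) : Z ⟶ X :=
  Over.homMk (h.lift x.left Z.hom (Over.w x)) (h.lift_snd _ _ _)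

@[simp]
theorem ofS_left (h : IsPullback q X.hom G.hom t) {Z : Over T} (x : (Over.map t).obj Z ⟶ G) :
    (ofS h x).left ≫ q = x.left := h.lift_fst _ _ _

/-- The bijection on points. -/
@[simps]
noncomputable def ptEquiv (h : IsPullback q X.hom G.hom t) (Z : Over T) :
    (Z ⟶ X) ≃ ((Over.map t).obj Z ⟶ G) where
  toFun x := toS h x
  invFun x := ofS h x
  left_inv x := by
    ext1
    apply h.hom_ext
    · simp
    · exact (Over.w _).trans (Over.w _).symm
  right_inv x := by
    ext1
    simp

@[simp]
theorem toS_ofS (h : IsPullback q X.hom G.hom t) {Z : Over T} (x : (Over.map t).obj Z ⟶ G) :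
    toS h (ofS h x) = x := (ptEquiv h Z).right_inv x

@[simp]
theorem ofS_toS (h : IsPullback q X.hom G.hom t) {Z : Over T} (x : Z ⟶ X) :
    ofS h (toS h x) = x := (ptEquiv h Z).left_inv x

theorem toS_injective (h : IsPullback q X.hom G.hom t) {Z : Over T} {x y : Z ⟶ X}
    (e : toS h x = toS h y) : x = y := (ptEquiv h Z).injective e

theorem toS_comp (h : IsPullback q X.hom G.hom t) {Z Z' : Over T} (f : Z' ⟶ Z) (x : Z ⟶ X) :
    toS h (f ≫ x) = (Over.map t).map f ≫ toS h x := by
  ext1
  simp

theorem lies_map (ht : ∀ x, t x ∈ U) (Z : Over T) : Lies U ((Over.map t).obj Z) := by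
  intro z
  have h1 : ((Over.map t).obj Z).hom = Z.hom ≫ t := rfl
  rw [h1]
  exact ht _

/-- The presheaf of groups represented by a model. -/
noncomputable def psh (P : PGrp U G) (ht : ∀ x, t x ∈ U) : (Over T)ᵒᵖ ⥤ GrpCat.{u} where
  obj Z := @GrpCat.of ((Over.map t).obj Z.unop ⟶ G) (P.group (lies_map ht Z.unop))
  map {Z Z'} f :=
    letI := P.group (lies_map ht Z.unop)
    letI := P.group (lies_map ht Z'.unop)
    GrpCat.ofHom (P.pullHom ((Over.map t).map f.unop) (lies_map ht Z.unop) (lies_map ht Z'.unop))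
  map_id Z := by
    refine ConcreteCategory.hom_ext _ _ fun x => ?_
    change (Over.map t).map (𝟙 Z.unop) ≫ x = x
    simp
  map_comp {Z Z' Z''} f g := by
    refine ConcreteCategory.hom_ext _ _ fun x => ?_
    change (Over.map t).map (g.unop ≫ f.unop) ≫ x = (Over.map t).map g.unop ≫ (Over.map t).map f.unop ≫ x
    simp

/-- The presheaf is represented by the pullback. -/
noncomputable def repr (P : PGrp U G) (ht : ∀ x, t x ∈ U) (h : IsPullback q X.hom G.hom t) :
    (psh P ht ⋙ forget _).RepresentableBy X where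
  homEquiv {Z} := ptEquiv h Z
  homEquiv_comp {Z Z'} f x := toS_comp h f x

end

/-- `X` over `t : T ⟶ S` is the base change of `G` and its group law is the one of `P`. -/
structure IsModel (P : PGrp U G) {T : Scheme.{u}} (t : T ⟶ S) (X : Over T) [GrpObj X]
    (q : X.left ⟶ G.left) : Prop where
  isPullback : IsPullback q X.hom G.hom t
  lies : ∀ x, t x ∈ U
  mul : ∀ {Z : Over T} (x y : Z ⟶ X),
    toS isPullback (x * y) = P.mul (lies_map lies Z) (toS isPullback x) (toS isPullback y)

/-- Existence of the group law of a model. -/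
theorem exists_grpObj (P : PGrp U G) {T : Scheme.{u}} {t : T ⟶ S} {X : Over T} {q : X.left ⟶ G.left}
    (h : IsPullback q X.hom G.hom t) (ht : ∀ x, t x ∈ U) : ∃ _ : GrpObj X, IsModel P t X q := by
  letI : GrpObj X := GrpObj.ofRepresentableBy X (psh P ht) (repr P ht h)
  refine ⟨inferInstance, ⟨h, ht, ?_⟩⟩
  intro Z x y
  exact ((yonedaGrpObjIsoOfRepresentableBy X (psh P ht) (repr P ht h)).hom.app (op Z)).hom.map_mul x y

/-- A morphism multiplicative on points is a homomorphism. -/
theorem isMonHom_of_mul {C : Type*} [Category C] [CartesianMonoidalCategory C] {X Y : C} [GrpObj X]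
    [GrpObj Y] (f : X ⟶ Y) (h : ∀ {Z : C} (x y : Z ⟶ X), (x * y) ≫ f = (x ≫ f) * (y ≫ f)) :
    IsMonHom f where
  one_hom := by
    have h1 : (1 : 𝟙_ C ⟶ X) ≫ f = 1 := by
      have h2 := h (1 : 𝟙_ C ⟶ X) 1
      rw [_root_.mul_one] at h2
      exact mul_eq_left.mp h2.symm
    rw [Hom.one_def, Hom.one_def, Category.assoc] at h1
    have h3 : toUnit (𝟙_ C) = 𝟙 _ := toUnit_unique _ _
    rwa [h3, Category.id_comp, Category.id_comp] at h1
  mul_hom := by
    have h1 := h (fst X X) (snd X X)
    rw [Hom.mul_def, Hom.mul_def, lift_fst_snd, Category.id_comp] at h1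
    rw [h1]
    congr 1
    ext <;> simp

namespace IsModel

variable {P : PGrp U G} {T : Scheme.{u}} {t : T ⟶ S} {X : Over T} [GrpObj X] {q : X.left ⟶ G.left}

theorem toS_mul (h : IsModel P t X q) {Z : Over T} (x y : Z ⟶ X) :
    toS h.isPullback (x * y) =
      P.mul (lies_map h.lies Z) (toS h.isPullback x) (toS h.isPullback y) := h.mul x y

/-- Uniqueness of models. -/
theorem exists_iso (h : IsModel P t X q) {X' : Over T} [GrpObj X'] {q' : X'.left ⟶ G.left}
    (h' : IsModel P t X' q') : ∃ e : X ≅ X', IsMonHom e.hom ∧ e.hom.left ≫ q' = q := by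
  let a : X ⟶ X' := Over.homMk (h'.isPullback.lift q X.hom h.isPullback.w) (h'.isPullback.lift_snd _ _ _)
  let b : X' ⟶ X := Over.homMk (h.isPullback.lift q' X'.hom h'.isPullback.w) (h.isPullback.lift_snd _ _ _)
  have ha : a.left ≫ q' = q := h'.isPullback.lift_fst _ _ _
  have hb : b.left ≫ q = q' := h.isPullback.lift_fst _ _ _
  have hab : a ≫ b = 𝟙 X := by
    apply toS_injective h.isPullback
    ext1
    simp [ha, hb]
  have hba : b ≫ a = 𝟙 X' := by
    apply toS_injective h'.isPullback
    ext1
    simp [ha, hb]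
  have hmon : IsMonHom a := by
    apply isMonHom_of_mul
    intro Z x y
    have key : ∀ x : Z ⟶ X, toS h'.isPullback (x ≫ a) = toS h.isPullback x := by
      intro x
      ext1
      simp [ha]
    apply toS_injective h'.isPullback
    rw [key, h.toS_mul, h'.toS_mul, key, key]
  exact ⟨⟨a, b, hab, hba⟩, hmon, ha⟩

/-- Multiplication of points through a model, for arbitrary `S`-schemes. -/
theorem mul_eq (h : IsModel P t X q) {Z : Over S} (hZ : Lies U Z) (z : Z.left ⟶ T) (hz : z ≫ t = Z.hom)
    (x y : Over.mk z ⟶ X) (x' y' : Z ⟶ G) (hx : x.left ≫ q = x'.left) (hy : y.left ≫ q = y'.left) :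
    (P.mul hZ x' y').left = (x * y).left ≫ q := by
  let u : Z ⟶ (Over.map t).obj (Over.mk z) := Over.homMk (𝟙 _) (by
    dsimp
    rw [hz, Category.id_comp])
  have hux : u ≫ toS h.isPullback x = x' := by
    ext1
    simp [u, hx]
  have huy : u ≫ toS h.isPullback y = y' := by
    ext1
    simp [u, hy]
  rw [← hux, ← huy, ← P.comp_mul u (lies_map h.lies _) hZ, ← h.toS_mul]
  simp [u]

/-- Models of models. -/
theorem comp (h : IsModel P t X q) {T' : Scheme.{u}} {t' : T' ⟶ T} {X' : Over T'} [GrpObj X']
    {q' : X'.left ⟶ X.left} {W : Set T} (h' : IsModel (ofGrpObj X W) t' X' q') :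
    IsModel P (t' ≫ t) X' (q' ≫ q) where
  isPullback := h'.isPullback.paste_horiz h.isPullback
  lies x := by
    rw [Scheme.Hom.comp_apply]
    exact h.lies _
  mul {Z} x y := by
    ext1
    rw [h.mul_eq (Z := (Over.map (t' ≫ t)).obj Z) _ (Z.hom ≫ t') (Category.assoc _ _ _)
      (toS h'.isPullback x) (toS h'.isPullback y)]
    · have h1 := congrArg (fun a => a.left ≫ q) (h'.toS_mul x y)
      simpa using h1
    · simp
    · simp

theorem res (h : IsModel P t X q) (hVU : V ⊆ U) (ht : ∀ x, t x ∈ V) : IsModel (P.res hVU) t X q where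
  isPullback := h.isPullback
  lies := ht
  mul x y := h.toS_mul x y

theorem of_res {hVU : V ⊆ U} (h : IsModel (P.res hVU) t X q) : IsModel P t X q where
  isPullback := h.isPullback
  lies x := hVU (h.lies x)
  mul x y := h.toS_mul x y

end IsModel

/-- The group law of the base change of a group, on points. -/
theorem isModel_bc (G : Over S) [GrpObj G] (U : Set S) {T : Scheme.{u}} (t : T ⟶ S)
    (ht : ∀ x, t x ∈ U) : IsModel (ofGrpObj G U) t (Red.bc t G) (pullback.fst G.hom t) where
  isPullback := IsPullback.of_hasPullback _ _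
  lies := ht
  mul {Z} y₁ y₂ := by
    let adj := Over.mapPullbackAdj t
    have key0 : ∀ y : Z ⟶ Red.bc t G, (adj.homEquiv Z G).symm y =
        toS (IsPullback.of_hasPullback G.hom t) y := fun y => rfl
    have key : (adj.homEquiv Z (G ⊗ G)).symm (lift y₁ y₂ ≫ Functor.LaxMonoidal.μ (Over.pullback t) G G) =
        lift ((adj.homEquiv Z G).symm y₁) ((adj.homEquiv Z G).symm y₂) := by
      ext1
      · rw [lift_fst, ← adj.homEquiv_naturality_right_symm, Category.assoc,
          Functor.Monoidal.μ_fst, lift_fst]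
      · rw [lift_snd, ← adj.homEquiv_naturality_right_symm, Category.assoc,
          Functor.Monoidal.μ_snd, lift_snd]
    change (adj.homEquiv Z G).symm (y₁ * y₂) = (adj.homEquiv Z G).symm y₁ * (adj.homEquiv Z G).symm y₂
    rw [Hom.mul_def, Hom.mul_def, ← key, ← adj.homEquiv_naturality_right_symm, Category.assoc]
    rfl

/-- Base change of a model. -/
theorem IsModel.bc {P : PGrp U G} {T : Scheme.{u}} {t : T ⟶ S} {X : Over T} [GrpObj X]
    {q : X.left ⟶ G.left} (h : IsModel P t X q) {T' : Scheme.{u}} (t' : T' ⟶ T) :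
    IsModel P (t' ≫ t) (Red.bc t' X) (pullback.fst X.hom t' ≫ q) :=
  h.comp (isModel_bc X Set.univ t' (fun _ => Set.mem_univ _))

/-- A partial group structure over the whole base is a group structure. -/
theorem exists_grpObj_univ (P : PGrp (Set.univ : Set S) G) :
    ∃ _ : GrpObj G, P = ofGrpObj G Set.univ := by
  obtain ⟨i, h⟩ := exists_grpObj P (t := 𝟙 S) (X := G) (q := 𝟙 _)
    (IsPullback.of_horiz_isIso ⟨by simp⟩) (fun _ => Set.mem_univ _)
  refine ⟨i, ext_mul ?_⟩
  intro Z hZ x y
  ext1
  have h1 := h.mul_eq hZ Z.hom (Category.comp_id _) (Over.homMk x.left (Over.w x))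
    (Over.homMk y.left (Over.w y)) x y (Category.comp_id _) (Category.comp_id _)
  rw [Category.comp_id] at h1
  exact h1

section Loc

/-- `t : T ⟶ S` is a localization: a monomorphism through which all morphisms with image in the image of `t` factor. -/
structure IsLoc {T : Scheme.{u}} (t : T ⟶ S) : Prop where
  mono : Mono t
  exists_lift : ∀ {Z : Scheme.{u}} (f : Z ⟶ S), (∀ z, f z ∈ Set.range t) → ∃ f' : Z ⟶ T, f' ≫ t = f

theorem isLoc_of_isOpenImmersion {T : Scheme.{u}} (t : T ⟶ S) [IsOpenImmersion t] : IsLoc t where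
  mono := inferInstance
  exists_lift f hf := ⟨IsOpenImmersion.lift t f (by rintro _ ⟨z, rfl⟩; exact hf z),
    IsOpenImmersion.lift_fac _ _ _⟩

variable {T : Scheme.{u}} {t : T ⟶ S} {X : Over T} [GrpObj X] {q : X.left ⟶ G.left}

/-- Two partial group structures with a common model over a localization agree there. -/
theorem mul_eq_of_isModel {P : PGrp U G} {Q : PGrp V G} (ht : IsLoc t) (hP : IsModel P t X q)
    (hQ : IsModel Q t X q) {Z : Over S} (hZ : Lies (Set.range t) Z) (hU : Lies U Z) (hV : Lies V Z)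
    (x y : Z ⟶ G) : P.mul hU x y = Q.mul hV x y := by
  obtain ⟨z, hz⟩ := ht.exists_lift Z.hom hZ
  have key : ∀ x : Z ⟶ G, ∃ x' : Over.mk z ⟶ X, x'.left ≫ q = x.left := by
    intro x
    refine ⟨Over.homMk (hP.isPullback.lift x.left z ?_) (hP.isPullback.lift_snd _ _ _),
      hP.isPullback.lift_fst _ _ _⟩
    rw [hz]
    exact Over.w x
  obtain ⟨x', hx⟩ := key x
  obtain ⟨y', hy⟩ := key y
  ext1
  rw [hP.mul_eq hU z hz x' y' x y hx hy, hQ.mul_eq hV z hz x' y' x y hx hy]

/-- A group over a localization `T` of `S` which is the restriction of `G` defines a partial group structure. -/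
theorem exists_pGrp (ht : IsLoc t) (h : IsPullback q X.hom G.hom t) :
    ∃ P : PGrp (Set.range t) G, IsModel P t X q := by
  have := ht.mono
  choose z hz using fun (Z : Over S) (hZ : Lies (Set.range t) Z) => ht.exists_lift Z.hom hZ
  let e : ∀ (Z : Over S) (hZ : Lies (Set.range t) Z), (Z ⟶ G) ≃ (Over.mk (z Z hZ) ⟶ X) := fun Z hZ =>
    { toFun x := Over.homMk (h.lift x.left (z Z hZ) (by rw [hz]; exact Over.w x)) (h.lift_snd _ _ _)
      invFun y := Over.homMk (y.left ≫ q) (by
        rw [Category.assoc, h.w, ← Category.assoc, Over.w y]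
        exact hz Z hZ)
      left_inv x := by
        ext1
        simp
      right_inv y := by
        ext1
        apply h.hom_ext
        · simp
        · simp only [Over.homMk_left, IsPullback.lift_snd]
          exact (Over.w y).symm }
  have he : ∀ (Z : Over S) (hZ : Lies (Set.range t) Z) (x : Z ⟶ G), (e Z hZ x).left ≫ q = x.left :=
    fun Z hZ x => h.lift_fst _ _ _
  have hes : ∀ (Z : Over S) (hZ : Lies (Set.range t) Z) (y), ((e Z hZ).symm y).left = y.left ≫ q :=
    fun Z hZ x => rfl
  have hnat : ∀ {Z Z' : Over S} (f : Z' ⟶ Z) (hZ : Lies (Set.range t) Z) (hZ' : Lies (Set.range t) Z'),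
      f.left ≫ z Z hZ = z Z' hZ' := by
    intro Z Z' f hZ hZ'
    rw [← cancel_mono t, Category.assoc, hz, hz, Over.w f]
  let P : PGrp (Set.range t) G :=
    { mul := fun {Z} hZ x y => (e Z hZ).symm (e Z hZ x * e Z hZ y)
      one := fun {Z} hZ => (e Z hZ).symm 1
      inv := fun {Z} hZ x => (e Z hZ).symm (e Z hZ x)⁻¹
      mul_assoc := fun {Z} hZ x y z => by
        simp only [Equiv.apply_symm_apply, _root_.mul_assoc]
      one_mul := fun {Z} hZ x => by
        simp only [Equiv.apply_symm_apply, _root_.one_mul, Equiv.symm_apply_apply]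
      inv_mul := fun {Z} hZ x => by
        simp only [Equiv.apply_symm_apply, inv_mul_cancel]
      comp_mul := fun {Z Z'} f hZ hZ' x y => by
        let f' : Over.mk (z Z' hZ') ⟶ Over.mk (z Z hZ) := Over.homMk f.left (hnat f hZ hZ')
        have h1 : ∀ x : Z ⟶ G, f' ≫ e Z hZ x = e Z' hZ' (f ≫ x) := by
          intro x
          ext1
          apply h.hom_ext
          · rw [he, Over.comp_left, Category.assoc, he]
            rfl
          · exact (Over.w _).trans (Over.w _).symm
        have h2 : ∀ y, f ≫ (e Z hZ).symm y = (e Z' hZ').symm (f' ≫ y) := by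
          intro y
          ext1
          rw [hes, Over.comp_left, hes, Over.comp_left, Category.assoc]
          rfl
        rw [h2, MonObj.comp_mul, h1, h1] }
  have hrange : ∀ x, t x ∈ Set.range t := fun x => ⟨x, rfl⟩
  refine ⟨P, { isPullback := h, lies := hrange, mul := ?_ }⟩
  intro Z x y
  have hZ : Lies (Set.range t) ((Over.map t).obj Z) := lies_map hrange Z
  have hzZ : z _ hZ = Z.hom := by
    rw [← cancel_mono t, hz]
    rfl
  let u : Z ⟶ Over.mk (z _ hZ) := Over.homMk (𝟙 _) (by simp [hzZ])
  have h1 : ∀ x : Z ⟶ X, u ≫ e _ hZ (toS h x) = x := by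
    intro x
    ext1
    apply h.hom_ext
    · rw [Over.comp_left, Category.assoc, he]
      simp [u]
    · exact (Over.w _).trans (Over.w _).symm
  ext1
  change _ = (e _ hZ (toS h x) * e _ hZ (toS h y)).left ≫ q
  have h2 : u ≫ (e _ hZ (toS h x) * e _ hZ (toS h y)) = x * y := by
    rw [MonObj.comp_mul, h1, h1]
  rw [← h2]
  simp [u]

end Loc

end Groth.Agent.Sga7.H301.PGrp
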