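import Groth.Agent.Sga7.H301.LimHom

/-!
# Spreading out partial group structures from a localization

* `isLoc_loc`: `Spec M⁻¹R ⟶ Spec R` is a localization in the sense of `IsLoc`;
* `exists_spread`: a partial group structure over `Spec M⁻¹R` extends to a basic open `D(m)`, `m ∈ M`;
* `exists_agree`: two partial group structures which agree over `Spec M⁻¹R` agree over some `D(m)`.
-/

set_option autoImplicit false
set_option backward.isDefEq.respectTransparency false
universe u

open CategoryTheory CategoryTheory.Limits AlgebraicGeometry MonObj MonoidalCategory CartesianMonoidalCategory Opposite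

namespace Groth.Agent.Sga7.H301.PGrp

theorem isUnit_of_forall_mem_basicOpen {X : Scheme.{u}} (f : Γ(X, ⊤)) (h : X.basicOpen f = ⊤) :
    IsUnit f := by
  refine RingedSpace.isUnit_of_isUnit_germ X.toRingedSpace ⊤ f fun x hx => ?_
  have hx' : x ∈ X.basicOpen f := by rw [h]; exact hx
  exact (X.toRingedSpace.mem_basicOpen f x hx).mp hx'

variable {R : Type u} [CommRing R] (M : Submonoid R) (L : Type u) [CommRing L] [Algebra R L]
  [IsLocalization M L]

include M in
theorem isLoc_loc : IsLoc (loc R L) where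
  mono := by
    have : IsPreimmersion (loc R L) := IsPreimmersion.of_isLocalization M
    infer_instance
  exists_lift {Z} f hf := by
    let ψ : CommRingCat.of R ⟶ Γ(Z, ⊤) := (Scheme.ΓSpecIso (CommRingCat.of R)).inv ≫ f.appTop
    have hψ : f = Z.toSpecΓ ≫ Spec.map ψ := by
      rw [Spec.map_comp, ← Scheme.toSpecΓ_naturality_assoc, ← SpecMap_ΓSpecIso_hom, ← Spec.map_comp]
      simp
    have hu : ∀ m : M, IsUnit (ψ.hom m) := by
      intro m
      apply isUnit_of_forall_mem_basicOpen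
      rw [eq_top_iff]
      intro z _
      change z ∈ Z.basicOpen (f.appTop ((Scheme.ΓSpecIso (CommRingCat.of R)).inv (m : R)))
      rw [← Scheme.preimage_basicOpen_top, basicOpen_eq_of_affine]
      change (m : R) ∉ (f z : PrimeSpectrum R).asIdeal
      obtain ⟨y, hy⟩ := hf z
      rw [← hy]
      intro h
      have h1 : algebraMap R L m ∈ (y : PrimeSpectrum L).asIdeal := h
      exact (y : PrimeSpectrum L).2.ne_top
        (Ideal.eq_top_of_isUnit_mem _ h1 (IsLocalization.map_units L m))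
    let χ : CommRingCat.of L ⟶ Γ(Z, ⊤) := CommRingCat.ofHom (IsLocalization.lift hu)
    have hχ : CommRingCat.ofHom (algebraMap R L) ≫ χ = ψ := by
      rw [← CommRingCat.ofHom_comp, IsLocalization.lift_comp]
      rfl
    exact ⟨Z.toSpecΓ ≫ Spec.map χ, by rw [Category.assoc, ← Spec.map_comp, hχ, ← hψ]⟩

section Factor

variable {S T : Scheme.{u}} {t : T ⟶ S}

/-- Points over a localization factor through the base change. -/
theorem exists_factor (ht : IsLoc t) {Z : Over S} {Z' : Over T} {a : Z'.left ⟶ Z.left}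
    (h : IsPullback a Z'.hom Z.hom t) {W : Over S} (hW : Lies (Set.range t) W) (b : W ⟶ Z) :
    ∃ c : W ⟶ (Over.map t).obj Z', c ≫ toS h (𝟙 Z') = b := by
  obtain ⟨w, hw⟩ := ht.exists_lift W.hom hW
  refine ⟨Over.homMk (h.lift b.left w (by rw [hw]; exact Over.w b)) ?_, ?_⟩
  · change h.lift _ _ _ ≫ Z'.hom ≫ t = _
    rw [← Category.assoc, h.lift_snd, hw]
  · ext1
    change h.lift _ _ _ ≫ 𝟙 _ ≫ a = b.left
    rw [Category.id_comp, h.lift_fst]

end Factor

variable {M} {G : Over (Spec (CommRingCat.of R))}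

theorem bo_le {m n : R} (h : m ∣ n) : (bo n : Set (Spec (CommRingCat.of R))) ⊆ bo m := by
  intro x hx
  obtain ⟨c, rfl⟩ := h
  change m ∉ (x : PrimeSpectrum R).asIdeal
  have hx' : m * c ∉ (x : PrimeSpectrum R).asIdeal := hx
  intro h
  exact hx' (Ideal.mul_mem_right _ _ h)

theorem range_loc_le (m : R) (hm : m ∈ M) :
    Set.range (loc R L) ⊆ (bo m : Set (Spec (CommRingCat.of R))) := by
  rintro _ ⟨x, rfl⟩
  change m ∉ ((loc R L) x : PrimeSpectrum R).asIdeal
  intro h
  have h1 : algebraMap R L m ∈ (x : PrimeSpectrum L).asIdeal := h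
  exact (x : PrimeSpectrum L).2.ne_top (Ideal.eq_top_of_isUnit_mem _ h1 (IsLocalization.map_units L ⟨m, hm⟩))

section Basic

variable {S : Scheme.{u}}

instance quasiCompact_tensor (X Y : Over S) [QuasiCompact X.hom] [QuasiCompact Y.hom] :
    QuasiCompact (X ⊗ Y).hom := by
  rw [Over.tensorObj_hom]
  infer_instance

instance quasiSeparated_tensor (X Y : Over S) [QuasiSeparated X.hom] [QuasiSeparated Y.hom] :
    QuasiSeparated (X ⊗ Y).hom := by
  rw [Over.tensorObj_hom]
  infer_instance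

instance lfp_tensor (X Y : Over S) [LocallyOfFinitePresentation X.hom]
    [LocallyOfFinitePresentation Y.hom] : LocallyOfFinitePresentation (X ⊗ Y).hom := by
  rw [Over.tensorObj_hom]
  infer_instance

instance : QuasiCompact (𝟙_ (Over S)).hom := inferInstanceAs (QuasiCompact (𝟙 S))

instance : QuasiSeparated (𝟙_ (Over S)).hom := inferInstanceAs (QuasiSeparated (𝟙 S))

end Basic

instance quasiCompact_opn_bo (Z : Over (Spec (CommRingCat.of R))) (m : R) [QuasiCompact Z.hom] :
    QuasiCompact (opn Z (bo m)).hom := by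
  have h0 : bo m = (Spec (CommRingCat.of R)).basicOpen ((Scheme.ΓSpecIso (CommRingCat.of R)).inv m) :=
    (basicOpen_eq_of_affine (R := CommRingCat.of R) m).symm
  have h1 : IsAffineOpen (bo m) := by
    rw [h0]
    exact (isAffineOpen_top _).basicOpen _
  have h2 : CompactSpace (bo m : Scheme.{u}) := isCompact_iff_compactSpace.mp h1.isCompact
  have h3 : QuasiCompact (bo m).ι := quasiCompact_of_compactSpace _
  exact quasiCompact_opn Z _

/-- Spreading out a family of points defined over the localization. -/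
theorem exists_spread_hom (Z Y : Over (Spec (CommRingCat.of R))) [QuasiCompact Z.hom]
    [QuasiSeparated Z.hom] [LocallyOfFinitePresentation Y.hom]
    (φ' : (Over.map (loc R L)).obj (Red.bc (loc R L) Z) ⟶ Y) :
    ∃ m ∈ M, ∃ φ : opn Z (bo m) ⟶ Y, ∀ {W : Over (Spec (CommRingCat.of R))}
      (_ : Lies (Set.range (loc R L)) W) (hm : Lies (bo m : Set (Spec (CommRingCat.of R))) W)
      (c : W ⟶ (Over.map (loc R L)).obj (Red.bc (loc R L) Z)) (b : W ⟶ Z),
      c ≫ toS (IsPullback.of_hasPullback Z.hom (loc R L)) (𝟙 (Red.bc (loc R L) Z)) = b →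
        opnLift hm b ≫ φ = c ≫ φ' := by
  obtain ⟨m, hm, φ, hφ⟩ := exists_extend (M := M) L (Z := Z) (Y := Y)
    (IsPullback.of_hasPullback Z.hom (loc R L)) φ'
  refine ⟨m, hm, φ, ?_⟩
  intro W _ hW c b hb
  rw [← hφ, ← Category.assoc, comp_opnLift _ hW, hb]

/-- The projection from the base change. -/
noncomputable abbrev cu (Z : Over (Spec (CommRingCat.of R))) :
    (Over.map (loc R L)).obj (Red.bc (loc R L) Z) ⟶ Z :=
  toS (IsPullback.of_hasPullback Z.hom (loc R L)) (𝟙 (Red.bc (loc R L) Z))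

theorem lies_cu (Z : Over (Spec (CommRingCat.of R))) :
    Lies (Set.range (loc R L)) ((Over.map (loc R L)).obj (Red.bc (loc R L) Z)) :=
  lies_map (fun x => Set.mem_range_self x) _

/-- Equality of two morphisms can be checked over the localization, after shrinking. -/
theorem exists_eq_of_cu (Z Y : Over (Spec (CommRingCat.of R))) [QuasiCompact Z.hom]
    [LocallyOfFiniteType Y.hom] (φ ψ : Z ⟶ Y) (e : cu L Z ≫ φ = cu L Z ≫ ψ) :
    ∃ m ∈ M, ∀ {T : Over (Spec (CommRingCat.of R))} (_ : Lies (bo m : Set (Spec (CommRingCat.of R))) T)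
      (b : T ⟶ Z), b ≫ φ = b ≫ ψ := by
  obtain ⟨m, hm, h⟩ := exists_eq (M := M) L (IsPullback.of_hasPullback Z.hom (loc R L)) φ ψ e
  exact ⟨m, hm, fun hT b => h _ hT b⟩

/-- **Spreading out partial group structures.** -/
theorem exists_spread [QuasiCompact G.hom] [QuasiSeparated G.hom] [LocallyOfFinitePresentation G.hom]
    (P' : PGrp (Set.range (loc R L)) G) :
    ∃ m ∈ M, ∃ P : PGrp (bo m : Set (Spec (CommRingCat.of R))) G,
      ∀ {W : Over (Spec (CommRingCat.of R))} (hW : Lies (Set.range (loc R L)) W)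
        (hm : Lies (bo m : Set (Spec (CommRingCat.of R))) W) (x y : W ⟶ G),
        P.mul hm x y = P'.mul hW x y := by
  have hloc : IsLoc (loc R L) := isLoc_loc M L
  obtain ⟨m1, hm1, μ', hμ⟩ := exists_spread_hom (M := M) L (G ⊗ G) G
    (P'.mul (lies_cu L (G ⊗ G)) (cu L (G ⊗ G) ≫ fst G G) (cu L (G ⊗ G) ≫ snd G G))
  obtain ⟨m2, hm2, ε', hε⟩ := exists_spread_hom (M := M) L (𝟙_ _) G (P'.one (lies_cu L (𝟙_ _)))
  obtain ⟨m3, hm3, ι', hι⟩ := exists_spread_hom (M := M) L G G (P'.inv (lies_cu L G) (cu L G))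
  let m := m1 * m2 * m3
  have hm : m ∈ M := M.mul_mem (M.mul_mem hm1 hm2) hm3
  have d1 : (bo m : Set (Spec (CommRingCat.of R))) ⊆ bo m1 := bo_le ⟨m2 * m3, by simp [m]; ring⟩
  have d2 : (bo m : Set (Spec (CommRingCat.of R))) ⊆ bo m2 := bo_le ⟨m1 * m3, by simp [m]; ring⟩
  have d3 : (bo m : Set (Spec (CommRingCat.of R))) ⊆ bo m3 := bo_le ⟨m1 * m2, by simp [m]; ring⟩
  let mulm : ∀ {W : Over (Spec (CommRingCat.of R))}, Lies (bo m : Set (Spec (CommRingCat.of R))) W →
      (W ⟶ G) → (W ⟶ G) → (W ⟶ G) := fun {W} h x y => opnLift (h.mono d1) (lift x y) ≫ μ'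
  let onem : ∀ {W : Over (Spec (CommRingCat.of R))}, Lies (bo m : Set (Spec (CommRingCat.of R))) W →
      (W ⟶ G) := fun {W} h => opnLift (h.mono d2) (toUnit W) ≫ ε'
  let invm : ∀ {W : Over (Spec (CommRingCat.of R))}, Lies (bo m : Set (Spec (CommRingCat.of R))) W →
      (W ⟶ G) → (W ⟶ G) := fun {W} h x => opnLift (h.mono d3) x ≫ ι'
  have mul_agree : ∀ {W : Over (Spec (CommRingCat.of R))} (hW : Lies (Set.range (loc R L)) W)
      (h : Lies (bo m : Set (Spec (CommRingCat.of R))) W) (x y : W ⟶ G), mulm h x y = P'.mul hW x y := by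
    intro W hW h x y
    obtain ⟨c, hc⟩ := exists_factor (Z' := Red.bc (loc R L) (G ⊗ G)) hloc
      (IsPullback.of_hasPullback (G ⊗ G).hom (loc R L)) hW (lift x y)
    change opnLift (h.mono d1) (lift x y) ≫ μ' = _
    rw [hμ hW (h.mono d1) c (lift x y) hc, P'.comp_mul c _ hW, ← Category.assoc, ← Category.assoc, hc,
      lift_fst, lift_snd]
  have one_agree : ∀ {W : Over (Spec (CommRingCat.of R))} (hW : Lies (Set.range (loc R L)) W)
      (h : Lies (bo m : Set (Spec (CommRingCat.of R))) W), onem h = P'.one hW := by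
    intro W hW h
    obtain ⟨c, hc⟩ := exists_factor (Z' := Red.bc (loc R L) (𝟙_ (Over (Spec (CommRingCat.of R))))) hloc
      (IsPullback.of_hasPullback (𝟙_ (Over (Spec (CommRingCat.of R)))).hom (loc R L)) hW (toUnit W)
    change opnLift (h.mono d2) (toUnit W) ≫ ε' = _
    rw [hε hW (h.mono d2) c (toUnit W) hc, P'.comp_one c _ hW]
  have inv_agree : ∀ {W : Over (Spec (CommRingCat.of R))} (hW : Lies (Set.range (loc R L)) W)
      (h : Lies (bo m : Set (Spec (CommRingCat.of R))) W) (x : W ⟶ G), invm h x = P'.inv hW x := by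
    intro W hW h x
    obtain ⟨c, hc⟩ := exists_factor (Z' := Red.bc (loc R L) G) hloc (IsPullback.of_hasPullback G.hom (loc R L)) hW x
    change opnLift (h.mono d3) x ≫ ι' = _
    rw [hι hW (h.mono d3) c x hc, P'.comp_inv c _ hW, hc]
  have comp_mulm : ∀ {W W' : Over (Spec (CommRingCat.of R))} (f : W' ⟶ W)
      (h : Lies (bo m : Set (Spec (CommRingCat.of R))) W)
      (h' : Lies (bo m : Set (Spec (CommRingCat.of R))) W') (x y : W ⟶ G),
      f ≫ mulm h x y = mulm h' (f ≫ x) (f ≫ y) := by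
    intro W W' f h h' x y
    change f ≫ opnLift (h.mono d1) (lift x y) ≫ μ' = opnLift (h'.mono d1) (lift (f ≫ x) (f ≫ y)) ≫ μ'
    rw [← Category.assoc, comp_opnLift (h.mono d1) (h'.mono d1), comp_lift]
  have comp_onem : ∀ {W W' : Over (Spec (CommRingCat.of R))} (f : W' ⟶ W)
      (h : Lies (bo m : Set (Spec (CommRingCat.of R))) W)
      (h' : Lies (bo m : Set (Spec (CommRingCat.of R))) W'), f ≫ onem h = onem h' := by
    intro W W' f h h'
    change f ≫ opnLift (h.mono d2) (toUnit W) ≫ ε' = opnLift (h'.mono d2) (toUnit W') ≫ ε'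
    rw [← Category.assoc, comp_opnLift (h.mono d2) (h'.mono d2), comp_toUnit]
  have comp_invm : ∀ {W W' : Over (Spec (CommRingCat.of R))} (f : W' ⟶ W)
      (h : Lies (bo m : Set (Spec (CommRingCat.of R))) W)
      (h' : Lies (bo m : Set (Spec (CommRingCat.of R))) W') (x : W ⟶ G),
      f ≫ invm h x = invm h' (f ≫ x) := by
    intro W W' f h h' x
    change f ≫ opnLift (h.mono d3) x ≫ ι' = opnLift (h'.mono d3) (f ≫ x) ≫ ι'
    rw [← Category.assoc, comp_opnLift (h.mono d3) (h'.mono d3)]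
  -- the laws
  obtain ⟨n1, hn1, a1⟩ : ∃ n ∈ M, ∀ {W : Over (Spec (CommRingCat.of R))}
      (_ : Lies (bo n : Set (Spec (CommRingCat.of R))) W)
      (h : Lies (bo m : Set (Spec (CommRingCat.of R))) W) (x y z : W ⟶ G),
      mulm h (mulm h x y) z = mulm h x (mulm h y z) := by
    let Z := opn ((G ⊗ G) ⊗ G) (bo m)
    have hZ : Lies (bo m : Set (Spec (CommRingCat.of R))) Z := lies_opn _ _
    let x₀ : Z ⟶ G := opnι _ _ ≫ fst (G ⊗ G) G ≫ fst G G
    let y₀ : Z ⟶ G := opnι _ _ ≫ fst (G ⊗ G) G ≫ snd G G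
    let z₀ : Z ⟶ G := opnι _ _ ≫ snd (G ⊗ G) G
    obtain ⟨n, hn, h1⟩ := exists_eq_of_cu (M := M) L Z G (mulm hZ (mulm hZ x₀ y₀) z₀)
      (mulm hZ x₀ (mulm hZ y₀ z₀)) (by
        have h2 := hZ.comp (cu L Z)
        have h3 := lies_cu L Z
        rw [comp_mulm _ hZ h2, comp_mulm _ hZ h2, comp_mulm _ hZ h2, comp_mulm _ hZ h2]
        simp only [mul_agree h3 h2]
        exact P'.mul_assoc _ _ _ _)
    refine ⟨n, hn, ?_⟩
    intro W hW h x y z
    have h4 := h1 hW (opnLift h (lift (lift x y) z))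
    rw [comp_mulm _ hZ h, comp_mulm _ hZ h, comp_mulm _ hZ h, comp_mulm _ hZ h] at h4
    simpa [x₀, y₀, z₀] using h4
  obtain ⟨n2, hn2, a2⟩ : ∃ n ∈ M, ∀ {W : Over (Spec (CommRingCat.of R))}
      (_ : Lies (bo n : Set (Spec (CommRingCat.of R))) W)
      (h : Lies (bo m : Set (Spec (CommRingCat.of R))) W) (x : W ⟶ G),
      mulm h (onem h) x = x := by
    let Z := opn G (bo m)
    have hZ : Lies (bo m : Set (Spec (CommRingCat.of R))) Z := lies_opn _ _
    let x₀ : Z ⟶ G := opnι _ _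
    obtain ⟨n, hn, h1⟩ := exists_eq_of_cu (M := M) L Z G (mulm hZ (onem hZ) x₀) x₀ (by
        have h2 := hZ.comp (cu L Z)
        have h3 := lies_cu L Z
        rw [comp_mulm _ hZ h2, comp_onem _ hZ h2, mul_agree h3 h2, one_agree h3 h2]
        exact P'.one_mul _ _)
    refine ⟨n, hn, ?_⟩
    intro W hW h x
    have h4 := h1 hW (opnLift h x)
    rw [comp_mulm _ hZ h, comp_onem _ hZ h] at h4
    simpa [x₀] using h4
  obtain ⟨n3, hn3, a3⟩ : ∃ n ∈ M, ∀ {W : Over (Spec (CommRingCat.of R))}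
      (_ : Lies (bo n : Set (Spec (CommRingCat.of R))) W)
      (h : Lies (bo m : Set (Spec (CommRingCat.of R))) W) (x : W ⟶ G),
      mulm h (invm h x) x = onem h := by
    let Z := opn G (bo m)
    have hZ : Lies (bo m : Set (Spec (CommRingCat.of R))) Z := lies_opn _ _
    let x₀ : Z ⟶ G := opnι _ _
    obtain ⟨n, hn, h1⟩ := exists_eq_of_cu (M := M) L Z G (mulm hZ (invm hZ x₀) x₀) (onem hZ) (by
        have h2 := hZ.comp (cu L Z)
        have h3 := lies_cu L Z
        rw [comp_mulm _ hZ h2, comp_onem _ hZ h2, comp_invm _ hZ h2, mul_agree h3 h2, one_agree h3 h2,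
          inv_agree h3 h2]
        exact P'.inv_mul _ _)
    refine ⟨n, hn, ?_⟩
    intro W hW h x
    have h4 := h1 hW (opnLift h x)
    rw [comp_mulm _ hZ h, comp_onem _ hZ h, comp_invm _ hZ h] at h4
    simpa [x₀] using h4
  let k := m * (n1 * n2 * n3)
  have hk : k ∈ M := M.mul_mem hm (M.mul_mem (M.mul_mem hn1 hn2) hn3)
  have e0 : (bo k : Set (Spec (CommRingCat.of R))) ⊆ bo m := bo_le ⟨n1 * n2 * n3, rfl⟩
  have e1 : (bo k : Set (Spec (CommRingCat.of R))) ⊆ bo n1 := bo_le ⟨m * n2 * n3, by simp [k]; ring⟩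
  have e2 : (bo k : Set (Spec (CommRingCat.of R))) ⊆ bo n2 := bo_le ⟨m * n1 * n3, by simp [k]; ring⟩
  have e3 : (bo k : Set (Spec (CommRingCat.of R))) ⊆ bo n3 := bo_le ⟨m * n1 * n2, by simp [k]; ring⟩
  refine ⟨k, hk,
    { mul := fun {W} h x y => mulm (h.mono e0) x y
      one := fun {W} h => onem (h.mono e0)
      inv := fun {W} h x => invm (h.mono e0) x
      mul_assoc := fun {W} h x y z => a1 (h.mono e1) (h.mono e0) x y z
      one_mul := fun {W} h x => a2 (h.mono e2) (h.mono e0) x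
      inv_mul := fun {W} h x => a3 (h.mono e3) (h.mono e0) x
      comp_mul := fun {W W'} f h h' x y => comp_mulm f (h.mono e0) (h'.mono e0) x y }, ?_⟩
  intro W hW h x y
  exact mul_agree hW (h.mono e0) x y

/-- Two partial group structures which agree over the localization agree over a basic open. -/
theorem exists_agree [QuasiCompact G.hom] [LocallyOfFiniteType G.hom]
    {U V : Set (Spec (CommRingCat.of R))} (P : PGrp U G) (Q : PGrp V G) (m : R) 
    (hU : (bo m : Set (Spec (CommRingCat.of R))) ⊆ U) (hV : (bo m : Set (Spec (CommRingCat.of R))) ⊆ V)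
    (h : ∀ {W : Over (Spec (CommRingCat.of R))} (_ : Lies (Set.range (loc R L)) W)
      (h1 : Lies U W) (h2 : Lies V W) (x y : W ⟶ G), P.mul h1 x y = Q.mul h2 x y) :
    ∃ n ∈ M, ∀ {W : Over (Spec (CommRingCat.of R))} (_ : Lies (bo (m * n) : Set (Spec (CommRingCat.of R))) W)
      (h1 : Lies U W) (h2 : Lies V W) (x y : W ⟶ G), P.mul h1 x y = Q.mul h2 x y := by
  let Z := opn (G ⊗ G) (bo m)
  have hZ : Lies (bo m : Set (Spec (CommRingCat.of R))) Z := lies_opn _ _
  let x₀ : Z ⟶ G := opnι _ _ ≫ fst G G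
  let y₀ : Z ⟶ G := opnι _ _ ≫ snd G G
  obtain ⟨n, hn, h1⟩ := exists_eq_of_cu (M := M) L Z G (P.mul (hZ.mono hU) x₀ y₀)
    (Q.mul (hZ.mono hV) x₀ y₀) (by
      have h2 := hZ.comp (cu L Z)
      have h3 := lies_cu L Z
      rw [P.comp_mul _ _ (h2.mono hU), Q.comp_mul _ _ (h2.mono hV)]
      exact h h3 _ _ _ _)
  refine ⟨n, hn, ?_⟩
  intro W hW h2 h3 x y
  have h4 : Lies (bo m : Set (Spec (CommRingCat.of R))) W := hW.mono (bo_le ⟨n, rfl⟩)
  have h5 := h1 (hW.mono (bo_le ⟨m, mul_comm _ _⟩)) (opnLift h4 (lift x y))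
  rw [P.comp_mul _ _ h2, Q.comp_mul _ _ h3] at h5
  simpa [x₀, y₀] using h5

end Groth.Agent.Sga7.H301.PGrp
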