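import Groth.Agent.Sga7.H301.SpreadGrp

/-!
# Spreading out isomorphisms

`L = M⁻¹R`, `G₀`, `G₁` of finite presentation over `Spec R` with the same base change `A` to `Spec L`.

* `exists_iso`: `G₀` and `G₁` are isomorphic over some `D(m)`, `m ∈ M`, compatibly with `A`;
* `exists_iso_grp`: the same with partial group structures.
-/

set_option autoImplicit false
set_option backward.isDefEq.respectTransparency false
universe u

open CategoryTheory CategoryTheory.Limits AlgebraicGeometry MonObj MonoidalCategory CartesianMonoidalCategory Opposite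

namespace Groth.Agent.Sga7.H301.PGrp

variable {R : Type u} [CommRing R] (M : Submonoid R) (L : Type u) [CommRing L] [Algebra R L]
  [IsLocalization M L]

variable {G₀ G₁ : Over (Spec (CommRingCat.of R))} {A : Over (Spec (CommRingCat.of L))}
  {q₀ : A.left ⟶ G₀.left} {q₁ : A.left ⟶ G₁.left}

/-- The image of the localization lies in the basic opens of its denominators. -/
theorem lies_map_A (m : R) (hm : m ∈ M) (A : Over (Spec (CommRingCat.of L))) :
    Lies (bo m : Set (Spec (CommRingCat.of R))) ((Over.map (loc R L)).obj A) :=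
  lies_map_loc L m hm A

theorem exists_iso [LocallyOfFinitePresentation G₀.hom] [QuasiCompact G₀.hom] [QuasiSeparated G₀.hom]
    [LocallyOfFinitePresentation G₁.hom] [QuasiCompact G₁.hom] [QuasiSeparated G₁.hom]
    (h₀ : IsPullback q₀ A.hom G₀.hom (loc R L)) (h₁ : IsPullback q₁ A.hom G₁.hom (loc R L)) :
    ∃ (m : R) (hm : m ∈ M) (u : opn G₀ (bo m) ⟶ opn G₁ (bo m)), IsIso u ∧
      opnLift (lies_map_A M L m hm A) (toS h₀ (𝟙 A)) ≫ u =
        opnLift (lies_map_A M L m hm A) (toS h₁ (𝟙 A)) := by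
  have hloc : IsLoc (loc R L) := isLoc_loc M L
  obtain ⟨m1, hm1, u1, hu1⟩ := exists_extend (M := M) L (Z := G₀) (Y := G₁) h₀ (toS h₁ (𝟙 A))
  obtain ⟨m2, hm2, v1, hv1⟩ := exists_extend (M := M) L (Z := G₁) (Y := G₀) h₁ (toS h₀ (𝟙 A))
  let m := m1 * m2
  have hm : m ∈ M := M.mul_mem hm1 hm2
  have d1 : (bo m : Set (Spec (CommRingCat.of R))) ⊆ bo m1 := bo_le ⟨m2, rfl⟩
  have d2 : (bo m : Set (Spec (CommRingCat.of R))) ⊆ bo m2 := bo_le ⟨m1, mul_comm _ _⟩
  let u : ∀ {W : Over (Spec (CommRingCat.of R))}, Lies (bo m : Set (Spec (CommRingCat.of R))) W →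
      (W ⟶ G₀) → (W ⟶ G₁) := fun {W} h x => opnLift (h.mono d1) x ≫ u1
  let v : ∀ {W : Over (Spec (CommRingCat.of R))}, Lies (bo m : Set (Spec (CommRingCat.of R))) W →
      (W ⟶ G₁) → (W ⟶ G₀) := fun {W} h x => opnLift (h.mono d2) x ≫ v1
  have comp_u : ∀ {W W' : Over (Spec (CommRingCat.of R))} (f : W' ⟶ W)
      (h : Lies (bo m : Set (Spec (CommRingCat.of R))) W)
      (h' : Lies (bo m : Set (Spec (CommRingCat.of R))) W') (x : W ⟶ G₀), f ≫ u h x = u h' (f ≫ x) := by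
    intro W W' f h h' x
    change f ≫ opnLift (h.mono d1) x ≫ u1 = opnLift (h'.mono d1) (f ≫ x) ≫ u1
    rw [← Category.assoc, comp_opnLift (h.mono d1) (h'.mono d1)]
  have comp_v : ∀ {W W' : Over (Spec (CommRingCat.of R))} (f : W' ⟶ W)
      (h : Lies (bo m : Set (Spec (CommRingCat.of R))) W)
      (h' : Lies (bo m : Set (Spec (CommRingCat.of R))) W') (x : W ⟶ G₁), f ≫ v h x = v h' (f ≫ x) := by
    intro W W' f h h' x
    change f ≫ opnLift (h.mono d2) x ≫ v1 = opnLift (h'.mono d2) (f ≫ x) ≫ v1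
    rw [← Category.assoc, comp_opnLift (h.mono d2) (h'.mono d2)]
  have hu : ∀ {W : Over (Spec (CommRingCat.of R))} (h : Lies (bo m : Set (Spec (CommRingCat.of R))) W)
      (c : W ⟶ (Over.map (loc R L)).obj A), u h (c ≫ toS h₀ (𝟙 A)) = c ≫ toS h₁ (𝟙 A) := by
    intro W h c
    change opnLift (h.mono d1) (c ≫ toS h₀ (𝟙 A)) ≫ u1 = _
    rw [← hu1, ← Category.assoc, comp_opnLift _ (h.mono d1)]
  have hv : ∀ {W : Over (Spec (CommRingCat.of R))} (h : Lies (bo m : Set (Spec (CommRingCat.of R))) W)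
      (c : W ⟶ (Over.map (loc R L)).obj A), v h (c ≫ toS h₁ (𝟙 A)) = c ≫ toS h₀ (𝟙 A) := by
    intro W h c
    change opnLift (h.mono d2) (c ≫ toS h₁ (𝟙 A)) ≫ v1 = _
    rw [← hv1, ← Category.assoc, comp_opnLift _ (h.mono d2)]
  obtain ⟨n1, hn1, a1⟩ : ∃ n ∈ M, ∀ {W : Over (Spec (CommRingCat.of R))}
      (_ : Lies (bo n : Set (Spec (CommRingCat.of R))) W)
      (h : Lies (bo m : Set (Spec (CommRingCat.of R))) W) (x : W ⟶ G₀), v h (u h x) = x := by
    let Z := opn G₀ (bo m)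
    have hZ : Lies (bo m : Set (Spec (CommRingCat.of R))) Z := lies_opn _ _
    obtain ⟨n, hn, h1⟩ := exists_eq_of_cu (M := M) L Z G₀ (v hZ (u hZ (opnι _ _))) (opnι _ _) (by
        have h2 := hZ.comp (cu L Z)
        have h3 := lies_cu L Z
        rw [comp_v _ hZ h2, comp_u _ hZ h2]
        obtain ⟨c, hc⟩ := exists_factor hloc h₀ h3 (cu L Z ≫ opnι _ _)
        rw [← hc, hu h2, hv h2])
    refine ⟨n, hn, ?_⟩
    intro W hW h x
    have h4 := h1 hW (opnLift h x)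
    rw [comp_v _ hZ h, comp_u _ hZ h] at h4
    simpa using h4
  obtain ⟨n2, hn2, a2⟩ : ∃ n ∈ M, ∀ {W : Over (Spec (CommRingCat.of R))}
      (_ : Lies (bo n : Set (Spec (CommRingCat.of R))) W)
      (h : Lies (bo m : Set (Spec (CommRingCat.of R))) W) (x : W ⟶ G₁), u h (v h x) = x := by
    let Z := opn G₁ (bo m)
    have hZ : Lies (bo m : Set (Spec (CommRingCat.of R))) Z := lies_opn _ _
    obtain ⟨n, hn, h1⟩ := exists_eq_of_cu (M := M) L Z G₁ (u hZ (v hZ (opnι _ _))) (opnι _ _) (by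
        have h2 := hZ.comp (cu L Z)
        have h3 := lies_cu L Z
        rw [comp_u _ hZ h2, comp_v _ hZ h2]
        obtain ⟨c, hc⟩ := exists_factor hloc h₁ h3 (cu L Z ≫ opnι _ _)
        rw [← hc, hv h2, hu h2])
    refine ⟨n, hn, ?_⟩
    intro W hW h x
    have h4 := h1 hW (opnLift h x)
    rw [comp_u _ hZ h, comp_v _ hZ h] at h4
    simpa using h4
  let k := m * (n1 * n2)
  have hk : k ∈ M := M.mul_mem hm (M.mul_mem hn1 hn2)
  have e0 : (bo k : Set (Spec (CommRingCat.of R))) ⊆ bo m := bo_le ⟨n1 * n2, rfl⟩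
  have e1 : (bo k : Set (Spec (CommRingCat.of R))) ⊆ bo n1 := bo_le ⟨m * n2, by simp [k]; ring⟩
  have e2 : (bo k : Set (Spec (CommRingCat.of R))) ⊆ bo n2 := bo_le ⟨m * n1, by simp [k]; ring⟩
  have l0 : Lies (bo k : Set (Spec (CommRingCat.of R))) (opn G₀ (bo k)) := lies_opn _ _
  have l1 : Lies (bo k : Set (Spec (CommRingCat.of R))) (opn G₁ (bo k)) := lies_opn _ _
  let a : opn G₀ (bo k) ⟶ opn G₁ (bo k) := opnLift l0 (u (l0.mono e0) (opnι _ _))
  let b : opn G₁ (bo k) ⟶ opn G₀ (bo k) := opnLift l1 (v (l1.mono e0) (opnι _ _))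
  have hab : a ≫ b = 𝟙 _ := by
    rw [← cancel_mono (opnι G₀ (bo k)), Category.assoc, opnLift_ι, comp_v _ (l1.mono e0) (l0.mono e0),
      opnLift_ι, a1 (l0.mono e1) (l0.mono e0), Category.id_comp]
  have hba : b ≫ a = 𝟙 _ := by
    rw [← cancel_mono (opnι G₁ (bo k)), Category.assoc, opnLift_ι, comp_u _ (l0.mono e0) (l1.mono e0),
      opnLift_ι, a2 (l1.mono e2) (l1.mono e0), Category.id_comp]
  refine ⟨k, hk, a, ⟨b, hab, hba⟩, ?_⟩
  rw [← cancel_mono (opnι G₁ (bo k)), Category.assoc, opnLift_ι, opnLift_ι,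
    comp_u _ (l0.mono e0) ((lies_map_A M L k hk A).mono e0), opnLift_ι]
  have h5 := hu ((lies_map_A M L k hk A).mono e0) (𝟙 _)
  simpa using h5

section Bij

variable {S : Scheme.{u}} {U V : Set S} {G H K : Over S}

theorem BijOn.of_comp {i : G ⟶ H} {j : H ⟶ K} (hij : BijOn U (i ≫ j)) (hj : BijOn U j) : BijOn U i := by
  intro Z hZ
  refine ⟨fun x y hxy => (hij hZ).1 ?_, fun y => ?_⟩
  · change x ≫ i = y ≫ i at hxy
    change x ≫ i ≫ j = y ≫ i ≫ j
    rw [← Category.assoc, hxy, Category.assoc]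
  · obtain ⟨x, hx⟩ := (hij hZ).2 (y ≫ j)
    refine ⟨x, (hj hZ).1 ?_⟩
    change (x ≫ i) ≫ j = y ≫ j
    rw [Category.assoc]
    exact hx

theorem bijOn_of_isIso (U : Set S) (i : G ⟶ H) [IsIso i] : BijOn U i := by
  intro Z _
  refine ⟨fun x y hxy => (cancel_mono i).mp hxy, fun y => ⟨y ≫ CategoryTheory.inv i, by simp⟩⟩

/-- Points of the target over `U` are in the image. -/
theorem BijOn.mem_range {i : G ⟶ H} (hi : BijOn U i) (y : H.left) (hy : H.hom y ∈ U) :
    y ∈ Set.range i.left := by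
  let Z : Over S := Over.mk (H.left.fromSpecResidueField y ≫ H.hom)
  have hZ : Lies U Z := by
    intro z
    change (H.left.fromSpecResidueField y ≫ H.hom) z ∈ U
    rw [Scheme.Hom.comp_apply, Scheme.fromSpecResidueField_apply]
    exact hy
  obtain ⟨x, hx⟩ := (hi hZ).2 (Over.homMk (H.left.fromSpecResidueField y) rfl)
  have h1 : x.left ≫ i.left = H.left.fromSpecResidueField y := congrArg CommaMorphism.left hx
  let z : Spec (H.left.residueField y) := IsLocalRing.closedPoint _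
  refine ⟨x.left z, ?_⟩
  rw [← Scheme.Hom.comp_apply, h1]
  exact Scheme.fromSpecResidueField_apply _ z

theorem IsModel.of_comapBij {P : PGrp U H} {T : Scheme.{u}} {t : T ⟶ S} {X : Over T} [GrpObj X]
    {q : X.left ⟶ G.left} {i : G ⟶ H} {hi : BijOn U i} (h : IsModel (P.comapBij i hi) t X q) :
    IsModel P t X (q ≫ i.left) := by
  have h1 : (P.comapBij i hi).ofBij i hi = P := by
    apply ext_mul
    intro Z hZ x y
    obtain ⟨x', hx'⟩ := (hi hZ).2 x
    obtain ⟨y', hy'⟩ := (hi hZ).2 y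
    have h2 : x' ≫ i = x := hx'
    have h3 : y' ≫ i = y := hy'
    rw [← h2, ← h3, ofBij_mul, comapBij_mul]
  have h2 := h.ofBij i hi
  rwa [h1] at h2

end Bij

/-- **Spreading out isomorphisms of groups.** -/
theorem exists_iso_grp [LocallyOfFinitePresentation G₀.hom] [QuasiCompact G₀.hom] [QuasiSeparated G₀.hom]
    [LocallyOfFinitePresentation G₁.hom] [QuasiCompact G₁.hom] [QuasiSeparated G₁.hom] [GrpObj A]
    {U₀ U₁ : Set (Spec (CommRingCat.of R))} {P₀ : PGrp U₀ G₀} {P₁ : PGrp U₁ G₁}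
    (h₀ : IsModel P₀ (loc R L) A q₀) (h₁ : IsModel P₁ (loc R L) A q₁) (g : R) (hg : g ∈ M)
    (hg0 : (bo g : Set (Spec (CommRingCat.of R))) ⊆ U₀) (hg1 : (bo g : Set (Spec (CommRingCat.of R))) ⊆ U₁) :
    ∃ (m : R) (_ : m ∈ M) (u : opn G₀ (bo m) ⟶ opn G₁ (bo m)) (q : A.left ⟶ (opn G₀ (bo m)).left),
      IsIso u ∧ q ≫ (opnι _ _).left = q₀ ∧ q ≫ u.left ≫ (opnι _ _).left = q₁ ∧
      ∃ k ∈ M, m ∣ k ∧ g ∣ k ∧
      ∀ {Z : Over (Spec (CommRingCat.of R))} (_ : Lies (bo k : Set (Spec (CommRingCat.of R))) Z)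
        (h0 : Lies U₀ Z) (h1 : Lies U₁ Z)
        (x y : Z ⟶ opn G₀ (bo m)), ∃ z : Z ⟶ opn G₀ (bo m),
          P₀.mul h0 (x ≫ opnι _ _) (y ≫ opnι _ _) = z ≫ opnι _ _ ∧
          P₁.mul h1 (x ≫ u ≫ opnι _ _) (y ≫ u ≫ opnι _ _) = z ≫ u ≫ opnι _ _ := by
  obtain ⟨m, hm, u, hu, hcu⟩ := exists_iso M L h₀.isPullback h₁.isPullback
  let N := opn G₀ (bo m)
  have b0 : BijOn (bo m : Set (Spec (CommRingCat.of R))) (opnι G₀ (bo m)) := bijOn_opnι _ _
  have b1 : BijOn (bo m : Set (Spec (CommRingCat.of R))) (u ≫ opnι G₁ (bo m)) :=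
    BijOn.comp (bijOn_of_isIso _ u) (bijOn_opnι _ _)
  let k := m * g
  have hk : k ∈ M := M.mul_mem hm hg
  have dm : (bo k : Set (Spec (CommRingCat.of R))) ⊆ bo m := bo_le ⟨g, rfl⟩
  have dg : (bo k : Set (Spec (CommRingCat.of R))) ⊆ bo g := bo_le ⟨m, mul_comm _ _⟩
  let P₀' : PGrp (bo k : Set (Spec (CommRingCat.of R))) N :=
    (P₀.res (dg.trans hg0)).comapBij (opnι G₀ (bo m)) (b0.mono dm)
  let P₁' : PGrp (bo k : Set (Spec (CommRingCat.of R))) N :=
    (P₁.res (dg.trans hg1)).comapBij (u ≫ opnι G₁ (bo m)) (b1.mono dm)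
  have hlk : ∀ x, loc R L x ∈ (bo k : Set (Spec (CommRingCat.of R))) :=
    fun x => range_loc_le (M := M) L k hk ⟨x, rfl⟩
  let q := (opnLift (lies_map_A M L m hm A) (toS h₀.isPullback (𝟙 A))).left
  have hq0 : q ≫ (opnι G₀ (bo m)).left = q₀ := by
    have h5 := congrArg CommaMorphism.left (opnLift_ι (lies_map_A M L m hm A) (toS h₀.isPullback (𝟙 A)))
    exact h5.trans (Category.id_comp q₀)
  have hq1 : q ≫ u.left ≫ (opnι G₁ (bo m)).left = q₁ := by
    have h5 := congrArg CommaMorphism.left (opnLift_ι (lies_map_A M L m hm A) (toS h₁.isPullback (𝟙 A)))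
    rw [← hcu, Category.assoc] at h5
    exact h5.trans (Category.id_comp q₁)
  obtain ⟨q', hq', hM0⟩ := (h₀.res (dg.trans hg0) hlk).exists_comapBij (opnι G₀ (bo m)) (b0.mono dm)
  obtain ⟨q'', hq'', hM1⟩ := (h₁.res (dg.trans hg1) hlk).exists_comapBij (u ≫ opnι G₁ (bo m)) (b1.mono dm)
  have e1 : q' = q := by
    have : Mono (opnι G₀ (bo m)).left := inferInstance
    rw [← cancel_mono (opnι G₀ (bo m)).left, hq', hq0]
  have e2 : q'' = q := by
    have i1 : IsIso u.left := inferInstanceAs (IsIso ((Over.forget _).map u))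
    have : Mono (u.left ≫ (opnι G₁ (bo m)).left) := inferInstance
    rw [← cancel_mono (u.left ≫ (opnι G₁ (bo m)).left), hq1]
    exact hq''
  subst e1
  subst e2
  have lfpN : LocallyOfFinitePresentation N.hom := inferInstance
  have qcN : QuasiCompact N.hom := inferInstance
  obtain ⟨n, hn, hag⟩ := exists_agree (M := M) L (G := N) P₀' P₁' k (le_refl _) (le_refl _)
    (fun {W} hW h1 h2 x y => mul_eq_of_isModel (isLoc_loc M L) hM0 hM1 hW h1 h2 x y)
  refine ⟨m, hm, u, _, hu, hq0, hq1, k * n, M.mul_mem hk hn, ⟨g * n, by simp [k]; ring⟩,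
    ⟨m * n, by simp [k]; ring⟩, ?_⟩
  intro Z hZ h0 h1 x y
  have hZk : Lies (bo k : Set (Spec (CommRingCat.of R))) Z := hZ.mono (bo_le ⟨n, rfl⟩)
  have h5 := hag hZ hZk hZk x y
  refine ⟨P₀'.mul hZk x y, ?_, ?_⟩
  · exact (comapBij_mul (P₀.res (dg.trans hg0)) _ (b0.mono dm) hZk x y).symm
  · rw [h5]
    exact (comapBij_mul (P₁.res (dg.trans hg1)) _ (b1.mono dm) hZk x y).symm

end Groth.Agent.Sga7.H301.PGrp
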